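import Groth.Agent.L07.ExtShGa.Lift
import Groth.Agent.L07.BiextTriv.Cls
import Groth.Agent.L08.DoubleDual.Main
import Mathlib.RingTheory.RingHom.Flat
import Mathlib.AlgebraicGeometry.Morphisms.Flat

/-!
# The first Ext sheaf of the additive group by the multiplicative group in characteristic `p`
-/

universe u

open CategoryTheory CategoryTheory.Limits AlgebraicGeometry Opposite
open scoped CategoryTheory.MonObj
open Groth.L07.GaExt (fn fn_comp ptSec)

set_option autoImplicit false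
set_option backward.defeqAttrib.useBackward true
set_option backward.isDefEq.respectTransparency false
set_option backward.isDefEq.respectTransparency.types false
set_option linter.style.haveILetI false
set_option maxHeartbeats 1000000

noncomputable section

namespace Groth.L07.ExtShGa

local notation "Kf" => Scheme.fppfPrecoverage

variable {S : Scheme.{u}}

/-- jointly surjective flat finitely presented families cover -/
theorem ofArrows_mem {X : Over S} {κ : Type*} (V : κ → Over S) (a : ∀ i, V i ⟶ X)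
    (hfl : ∀ i, Flat (a i).left) (hfp : ∀ i, LocallyOfFinitePresentation (a i).left)
    (hs : ∀ x : X.left, ∃ i, x ∈ Set.range (a i).left) : Sieve.ofArrows V a ∈ QuotSh.J Kf S X := by
  show Sieve.ofArrows V a ∈ ((Scheme.fppfPrecoverage.{u}).toGrothendieck.over S) X
  rw [GrothendieckTopology.mem_over_iff]
  rw [Sieve.overEquiv_ofArrows]
  refine Precoverage.generate_mem_toGrothendieck (R := Presieve.ofArrows (fun i => (V i).left) fun i => (a i).left) ?_
  refine ⟨fun x => ?_, ?_⟩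
  · obtain ⟨i, hi⟩ := hs x
    exact ⟨_, _, Presieve.map.of (Presieve.ofArrows.mk i), hi⟩
  · rintro _ _ ⟨i⟩
    exact ⟨hfl i, hfp i⟩

/-- a stage gives a cover -/
theorem π_cover {R A : Type u} [CommRing R] [CommRing A] [Algebra R A] [Module.Free R A] [Module.Finite R A]
    [Nontrivial A] : Flat (Spec.map (CommRingCat.ofHom (algebraMap R A))) ∧
      LocallyOfFinitePresentation (Spec.map (CommRingCat.ofHom (algebraMap R A))) ∧
      Surjective (Spec.map (CommRingCat.ofHom (algebraMap R A))) := by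
  haveI : Module.FinitePresentation R A := Module.finitePresentation_of_projective R A
  haveI : Algebra.FinitePresentation R A := Algebra.FinitePresentation.of_finitePresentation R A
  refine ⟨?_, ?_, ⟨fun x => ?_⟩⟩
  · rw [HasRingHomProperty.Spec_iff (P := @Flat)]
    exact RingHom.flat_algebraMap_iff.2 inferInstance
  · rw [HasRingHomProperty.Spec_iff (P := @LocallyOfFinitePresentation)]
    exact RingHom.finitePresentation_algebraMap.2 inferInstance
  · exact PrimeSpectrum.comap_surjective_of_faithfullyFlat (B := A) x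

variable {Sh : ShortComplex (BigSite.Ab Kf S)}

local notation "res" => GrothendieckTopology.overPullback (QuotSh.J Scheme.fppfPrecoverage S) AddCommGrpCat

open Groth.L08.DoubleDual (restr restr_comp_right)

theorem restr_app {A B : BigSite.Ab Kf S} {X Y : Over S} (a : Y ⟶ X) (φ : A.over X ⟶ B.over X) (W : Over S)
    (b : W ⟶ Y) (x : A.obj.obj (op W)) :
    (restr a φ).hom.app (op (Over.mk b)) x = φ.hom.app (op (Over.mk (b ≫ a))) x := rfl

theorem restr_restr {A B : BigSite.Ab Kf S} {X Y Z : Over S} (a : Y ⟶ X) (b : Z ⟶ Y) (φ : A.over X ⟶ B.over X) :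
    restr b (restr a φ) = restr (b ≫ a) φ := by
  show (HomSh.homSh (QuotSh.J Kf S) A B).obj.map b.op ((HomSh.homSh (QuotSh.J Kf S) A B).obj.map a.op φ) = _
  rw [← ConcreteCategory.comp_apply, ← Functor.map_comp, ← op_comp]

/-- homomorphisms from the additive group into quotients by units lift fppf locally in characteristic `p` -/
theorem exists_lift_locally (p : ℕ) [hp : Fact p.Prime] (hpS : (p : Γ(S, ⊤)) = 0) (hSh : Sh.ShortExact)
    (i₁ : Sh.X₁.obj ≅ GmPts.unitsPre S) (X : Over S) (φ : (CGrpSh2.Ga Kf S).over X ⟶ Sh.X₃.over X) :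
    ∃ Rs ∈ QuotSh.J Kf S X, ∀ ⦃X' : Over S⦄ (a : X' ⟶ X), Rs a →
      ∃ ψ : (CGrpSh2.Ga Kf S).over X' ⟶ Sh.X₂.over X', ψ ≫ (res X').map Sh.g = restr a φ := by
  let L : Sieve X :=
    { arrows := fun X' a => ∃ ψ : (CGrpSh2.Ga Kf S).over X' ⟶ Sh.X₂.over X', ψ ≫ (res X').map Sh.g = restr a φ
      downward_closed := fun {Y Z a} ⟨ψ, hψ⟩ b => ⟨restr b ψ, by rw [← restr_comp_right, hψ, restr_restr]⟩ }
  refine ⟨L, ?_, fun X' a ha => ha⟩
  let 𝒰 := X.left.affineCover
  let V : 𝒰.I₀ → Over S := fun i => Over.mk (𝒰.f i ≫ X.hom)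
  let j : ∀ i, V i ⟶ X := fun i => Over.homMk (𝒰.f i) rfl
  have hflj : ∀ i, Flat (j i).left := fun i => show Flat (𝒰.f i) from inferInstance
  have hfpj : ∀ i, LocallyOfFinitePresentation (j i).left := fun i =>
    show LocallyOfFinitePresentation (𝒰.f i) from inferInstance
  refine (QuotSh.J Kf S).transitive (ofArrows_mem V j hflj hfpj fun x => ⟨_, 𝒰.covers x⟩) L ?_
  rintro Y _ ⟨_, c, _, ⟨i⟩, rfl⟩
  rw [Sieve.pullback_comp]
  refine (QuotSh.J Kf S).pullback_stable c ?_
  suffices H : ∀ (R : Type u) [CommRing R] (s : Spec (CommRingCat.of R) ⟶ S) (a : ob s ⟶ X),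
      Sieve.pullback a L ∈ QuotSh.J Kf S (ob s) by
    haveI : IsAffine (V i).left := inferInstanceAs (IsAffine (𝒰.X i))
    let k : ob ((V i).left.isoSpec.inv ≫ (V i).hom) ≅ V i := Over.isoMk (V i).left.isoSpec.symm rfl
    have h2 := (QuotSh.J Kf S).pullback_stable k.inv (H _ _ (k.hom ≫ j i))
    rwa [← Sieve.pullback_comp, Iso.inv_hom_id_assoc] at h2
  clear c i j V hflj hfpj 𝒰
  intro R _ s a
  rcases subsingleton_or_nontrivial R with hR | hR
  · refine GrothendieckTopology.superset_covering _ bot_le ?_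
    have := ofArrows_mem (X := ob s) (κ := PEmpty.{1}) (fun i => i.elim) (fun i => i.elim) (fun i => i.elim)
      (fun i => i.elim) (fun x => isEmptyElim (show PrimeSpectrum R from x))
    refine GrothendieckTopology.superset_covering _ ?_ this
    rintro _ _ ⟨_, _, _, ⟨i⟩, -⟩
    exact i.elim
  have hpR : (p : R) = 0 := by
    have e := congrArg s.appTop hpS
    rw [map_natCast, map_zero] at e
    have e2 := congrArg (Scheme.ΓSpecIso (CommRingCat.of R)).hom e
    rwa [map_natCast, map_zero] at e2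
  haveI : CharP R p := (CharP.charP_iff_prime_eq_zero hp.out).2 hpR
  let φ₀ := restr a φ
  let Φ : ∀ W : Over S, (W ⟶ ob s) → Γ(W.left, ⊤) → Sh.X₃.obj.obj (op W) := fun W b v =>
    φ₀.hom.app (op (Over.mk b)) (ptSec (Groth.L25.GaPts.ptOfElt v))
  have hnat : ∀ {W W' : Over S} (c : W' ⟶ W) (b : W ⟶ ob s) (v : Γ(W.left, ⊤)),
      Sh.X₃.obj.map c.op (Φ W b v) = Φ W' (c ≫ b) (fn c v) := fun {W W'} c b v => by
    refine (NatTrans.naturality_apply φ₀.hom (Over.homMk c rfl : Over.mk (c ≫ b) ⟶ Over.mk b).op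
      (ptSec (Groth.L25.GaPts.ptOfElt v))).symm.trans ?_
    exact congrArg (φ₀.hom.app (op (Over.mk (c ≫ b))))
      (congrArg ULift.up (congrArg Additive.ofMul (Groth.L25.GaPts.ptOfElt_comp c v)))
  have hadd : ∀ (W : Over S) (b : W ⟶ ob s) (v w : Γ(W.left, ⊤)), Φ W b (v + w) = Φ W b v + Φ W b w :=
    fun W b v w => by
    refine Eq.trans ?_ (map_add (φ₀.hom.app (op (Over.mk b))).hom _ _)
    refine congrArg (φ₀.hom.app (op (Over.mk b))) (congrArg ULift.up (congrArg Additive.ofMul ?_))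
    exact Groth.L25.GaPts.gaFn_injective (by
      show Red.gaFn _ = Red.gaFn (_ * _)
      rw [Groth.L25.GaPts.gaFn_mul, Groth.L25.GaPts.gaFn_ptOfElt]
      exact (congrArg₂ (· + ·) (Groth.L25.GaPts.gaFn_ptOfElt v) (Groth.L25.GaPts.gaFn_ptOfElt w)).symm)
  obtain ⟨t, N, T, s₀, hs₀⟩ := exists_lift_section i₁ hSh (p := p) Φ hnat hadd
  haveI := T.nontrivial hR
  haveI : CharP T.A p := charP_of_injective_algebraMap (FaithfulSMul.algebraMap_injective R T.A) p
  let π₁ := π (algebraMap R T.A) s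
  obtain ⟨t', N', T', Ψ, hΨnat, hΨadd, hΨ⟩ := exists_additive_lift i₁ hSh (p := p)
    (fun W b v => Φ W (b ≫ π₁) v) (fun c b v => by rw [hnat, Category.assoc])
    (fun W b v w => hadd W _ v w) s₀ hs₀
  haveI := T'.nontrivial inferInstance
  let π₂ := π (algebraMap T.A T'.A) (bs (algebraMap R T.A) s)
  obtain ⟨hfl₁, hfp₁, hs₁⟩ := π_cover (R := R) (A := T.A)
  obtain ⟨hfl₂, hfp₂, hs₂⟩ := π_cover (R := T.A) (A := T'.A)
  haveI : Flat π₁.left := hfl₁
  haveI : Flat π₂.left := hfl₂
  haveI : LocallyOfFinitePresentation π₁.left := hfp₁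
  haveI : LocallyOfFinitePresentation π₂.left := hfp₂
  haveI : Surjective π₁.left := hs₁
  haveI : Surjective π₂.left := hs₂
  refine GrothendieckTopology.superset_covering _ ?_ (ofArrows_mem (κ := PUnit.{1}) (fun _ => _) (fun _ => π₂ ≫ π₁)
    (fun _ => inferInstanceAs (Flat (π₂.left ≫ π₁.left)))
    (fun _ => inferInstanceAs (LocallyOfFinitePresentation (π₂.left ≫ π₁.left)))
    (fun x => ⟨PUnit.unit, (π₂.left ≫ π₁.left).surjective x⟩))
  rintro _ _ ⟨_, d, _, ⟨⟩, rfl⟩
  refine Sieve.downward_closed _ ?_ d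
  let ψ : (CGrpSh2.Ga Kf S).over (ob (bs (algebraMap T.A T'.A) (bs (algebraMap R T.A) s))) ⟶
      Sh.X₂.over (ob (bs (algebraMap T.A T'.A) (bs (algebraMap R T.A) s))) :=
    ⟨{ app := fun U => AddCommGrpCat.ofHom (AddMonoidHom.mk' (M := (CGrpSh2.Ga Kf S).obj.obj (op U.unop.left))
          (fun x : (CGrpSh2.Ga Kf S).obj.obj (op U.unop.left) =>
            Ψ U.unop.left U.unop.hom (Red.gaFn (x.down.toMul : U.unop.left ⟶ Red.Ga S)))
          fun x y => (congrArg (Ψ U.unop.left U.unop.hom)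
            (Groth.L25.GaPts.gaFn_mul (x.down.toMul : U.unop.left ⟶ Red.Ga S) y.down.toMul)).trans (hΨadd _ _ _ _))
       naturality := fun U U' k => AddCommGrpCat.ext fun x => by
         show Ψ U'.unop.left U'.unop.hom (Red.gaFn (k.unop.left ≫ (x.down.toMul : U.unop.left ⟶ Red.Ga S))) =
           Sh.X₂.obj.map k.unop.left.op (Ψ U.unop.left U.unop.hom (Red.gaFn (x.down.toMul : U.unop.left ⟶ Red.Ga S)))
         rw [hΨnat, Over.w k.unop, Groth.L25.GaPts.gaFn_comp] }⟩
  refine ⟨ψ, Sheaf.hom_ext (NatTrans.ext (funext fun U => AddCommGrpCat.ext fun x => ?_))⟩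
  show Sh.g.hom.app (op U.unop.left) (Ψ U.unop.left U.unop.hom (Red.gaFn (x.down.toMul : U.unop.left ⟶ Red.Ga S))) =
    φ.hom.app (op (Over.mk (U.unop.hom ≫ ((π₂ ≫ π₁) ≫ a)))) x
  rw [hΨ]
  show φ₀.hom.app (op (Over.mk ((U.unop.hom ≫ π₂) ≫ π₁))) (ptSec (Groth.L25.GaPts.ptOfElt _)) = _
  rw [Groth.L25.GaPts.ptOfElt_gaFn, restr_app]
  exact HomSh.app_over_mk_congr _ φ (by simp only [Category.assoc]) x

set_option maxHeartbeats 8000000 in
variable (S) in
/-- the first Ext sheaf of the additive group by the multiplicative group vanishes in characteristic `p` -/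
theorem isZero_extSh_one (p : ℕ) [Fact p.Prime] (hp : (p : Γ(S, ⊤)) = 0) :
    IsZero ((HomSh.extSh (QuotSh.J Kf S) (CGrpSh2.Ga Kf S) 1).obj (CGrpSh2.Gm Kf S)) := by
  let G := CGrpSh2.Ga Kf S
  let J := QuotSh.J Kf S
  let R : InjectiveResolution (CGrpSh2.Gm Kf S) := (HasInjectiveResolution.out (Z := CGrpSh2.Gm Kf S)).some
  obtain ⟨e⟩ := Groth.L07.BiextTriv.rightDerived_one_iso (HomSh.homShFunctor J G) R (HomSh.extSh J G 1)
    (HomSh.extSh_def J G 1)
  refine IsZero.of_iso ?_ e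
  refine (ShortComplex.exact_iff_isZero_homology _).1 ((Groth.L27.FppfCmp.exact_iff_locally _).2 fun X θ' hθ' => ?_)
  let θ : G.over X ⟶ (R.cocomplex.X 1).over X := θ'
  have hθ : θ ≫ (res X).map (R.cocomplex.d 1 2) = 0 := by
    refine Eq.trans ?_ hθ'
    refine Eq.trans ?_ (HomSh.homShMap_app_apply J (𝟙 G) (R.cocomplex.d 1 2) (op X) θ).symm
    rw [CategoryTheory.Functor.map_id]
    exact (Category.id_comp _).symm
  let mI := R.ι.f 0
  haveI : Mono mI := inferInstanceAs (Mono (R.ι.f 0))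
  let Sh : ShortComplex (BigSite.Ab Kf S) := ShortComplex.mk mI (cokernel.π mI) (cokernel.condition mI)
  have hSh : Sh.ShortExact := { exact := ShortComplex.exact_of_g_is_cokernel _ (cokernelIsCokernel _) }
  have hιd : mI ≫ R.cocomplex.d 0 1 = 0 := R.ι_f_zero_comp_complex_d
  let d' : cokernel mI ⟶ R.cocomplex.X 1 := cokernel.desc mI _ hιd
  let S₁ : ShortComplex (BigSite.Ab Kf S) := ShortComplex.mk d' (R.cocomplex.d 1 2) (by
    rw [← cancel_epi (cokernel.π mI), cokernel.π_desc_assoc, HomologicalComplex.d_comp_d, comp_zero])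
  haveI : Mono d' := (ShortComplex.exact_iff_mono_cokernel_desc _).1 R.exact₀
  have hS₁ : S₁.Exact := by
    have h := R.exact_succ 0
    let f : ShortComplex.mk (R.cocomplex.d 0 1) (R.cocomplex.d 1 2) (R.cocomplex.d_comp_d 0 1 2) ⟶ S₁ :=
      { τ₁ := cokernel.π mI, τ₂ := 𝟙 _, τ₃ := 𝟙 _
        comm₁₂ := (cokernel.π_desc _ _ _).trans (Category.comp_id _).symm
        comm₂₃ := (Category.id_comp _).trans (Category.comp_id _).symm }
    haveI : Epi f.τ₁ := inferInstanceAs (Epi (cokernel.π mI))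
    exact (ShortComplex.exact_iff_of_epi_of_isIso_of_mono f).1 h
  haveI : Mono (S₁.map (res X)).f := inferInstanceAs (Mono ((res X).map d'))
  let φ : G.over X ⟶ (cokernel mI).over X := (Groth.L08.DoubleDual.exact_over J X hS₁).lift θ hθ
  have hφ : φ ≫ (res X).map d' = θ := (Groth.L08.DoubleDual.exact_over J X hS₁).lift_f θ hθ
  obtain ⟨Rs, hRs, hlift⟩ := exists_lift_locally p hp hSh (GmPts.ptsUnitsPreIso S) X φ
  refine ⟨Rs, hRs, fun X' a ha => ?_⟩
  obtain ⟨ψ, hψ⟩ := hlift a ha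
  refine ⟨ψ, (HomSh.homShMap_app_apply J (𝟙 G) (R.cocomplex.d 0 1) (op X') ψ).trans ?_⟩
  rw [CategoryTheory.Functor.map_id]
  refine (Category.id_comp _).trans ?_
  show ψ ≫ (res X').map (R.cocomplex.d 0 1) = restr a θ
  rw [show R.cocomplex.d 0 1 = Sh.g ≫ d' from (cokernel.π_desc mI _ hιd).symm, Functor.map_comp, ← Category.assoc]
  exact (congrArg (· ≫ (res X').map d') hψ).trans ((restr_comp_right a φ d').symm.trans (congrArg (restr a) hφ))

end Groth.L07.ExtShGa
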