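import Mathlib.RingTheory.AdjoinRoot
import Mathlib.RingTheory.Flat.FaithfullyFlat.Algebra
import Mathlib.RingTheory.FinitePresentation
import Mathlib.RingTheory.IntegralClosure.IsIntegralClosure.Basic
import Mathlib.RingTheory.Spectrum.Prime.RingHom
import Mathlib.RingTheory.Polynomial.Nilpotent
import Mathlib.RingTheory.MvPolynomial.Basic
import Mathlib.Algebra.MvPolynomial.Supported
import Mathlib.Algebra.CharP.Frobenius
import Mathlib.Algebra.CharP.Algebra

/-!
# Adjoining all `p`-power roots, and its finite free stages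
-/

universe u

set_option autoImplicit false
set_option linter.style.haveILetI false

noncomputable section

namespace Groth.L07.ExtShGa

variable (R : Type u) [CommRing R]

/-- A finite free algebra with `q`-th roots of finitely many elements. -/
structure Stage (s : Finset R) (q : ℕ) where
  A : Type u
  [commRing : CommRing A]
  [algebra : Algebra R A]
  [free : Module.Free R A]
  [finite : Module.Finite R A]
  nontrivial : Nontrivial R → Nontrivial A
  y : R → A
  pow_y : ∀ a ∈ s, y a ^ q = algebraMap R A a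
  gen : ∀ S : Subalgebra R A, (∀ a ∈ s, y a ∈ S) → S = ⊤
  exists_hom : ∀ {B : Type u} [CommRing B] [Algebra R B] (z : R → B), (∀ a ∈ s, z a ^ q = algebraMap R B a) →
    ∃ φ : A →ₐ[R] B, ∀ a ∈ s, φ (y a) = z a

attribute [instance] Stage.commRing Stage.algebra Stage.free Stage.finite

variable {R}

theorem exists_stage (s : Finset R) {q : ℕ} (hq : 0 < q) : Nonempty (Stage R s q) := by
  classical
  induction s using Finset.induction with
  | empty =>
    exact ⟨{
      A := R
      nontrivial := id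
      y := fun a => a
      pow_y := fun a ha => absurd ha (Finset.notMem_empty a)
      gen := fun S _ => by
        refine Algebra.eq_top_iff.2 fun x => ?_
        exact S.algebraMap_mem x
      exists_hom := fun {B} _ _ z _ => ⟨Algebra.ofId R B, fun a ha => absurd ha (Finset.notMem_empty a)⟩ }⟩
  | insert a s ha ih =>
    obtain ⟨S⟩ := ih
    let f : Polynomial S.A := Polynomial.X ^ q - Polynomial.C (algebraMap R S.A a)
    have hf : f.Monic := Polynomial.monic_X_pow_sub_C _ hq.ne'
    haveI := hf.free_adjoinRoot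
    haveI := hf.finite_adjoinRoot
    haveI : Module.Free R (AdjoinRoot f) := Module.Free.trans (S := S.A)
    haveI : Module.Finite R (AdjoinRoot f) := Module.Finite.trans S.A (AdjoinRoot f)
    refine ⟨{
      A := AdjoinRoot f
      nontrivial := fun hR => ?_
      y := fun b => if b = a then AdjoinRoot.root f else algebraMap S.A (AdjoinRoot f) (S.y b)
      pow_y := fun b hb => ?_
      gen := fun T hT => ?_
      exists_hom := fun {B} _ _ z hz => ?_ }⟩
    · haveI := S.nontrivial hR
      have hd : 0 < (AdjoinRoot.powerBasis' hf).dim := by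
        rw [AdjoinRoot.powerBasis'_dim, Polynomial.natDegree_X_pow_sub_C]; exact hq
      exact ⟨_, _, (AdjoinRoot.powerBasis' hf).basis.ne_zero ⟨0, hd⟩⟩
    · rcases eq_or_ne b a with rfl | hba
      · rw [if_pos rfl]
        have h := AdjoinRoot.eval₂_root f
        simp only [f, Polynomial.eval₂_sub, Polynomial.eval₂_X_pow, Polynomial.eval₂_C, sub_eq_zero] at h
        rw [h]
        rfl
      · rw [if_neg hba, ← map_pow, S.pow_y b ((Finset.mem_insert.1 hb).resolve_left hba),
          ← IsScalarTower.algebraMap_apply]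
    · have h1 : S.A → True := fun _ => trivial
      have hS : T.comap (IsScalarTower.toAlgHom R S.A (AdjoinRoot f)) = ⊤ := S.gen _ fun b hb => by
        have := hT b (Finset.mem_insert_of_mem hb)
        rw [if_neg (fun e : b = a => ha (e ▸ hb))] at this
        exact this
      have hc : ∀ c : S.A, algebraMap S.A (AdjoinRoot f) c ∈ T := fun c => (Algebra.eq_top_iff.1 hS c : _)
      have hr : AdjoinRoot.root f ∈ T := by
        have := hT a (Finset.mem_insert_self a s); rwa [if_pos rfl] at this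
      refine Algebra.eq_top_iff.2 fun x => ?_
      induction x using AdjoinRoot.induction_on with
      | ih g =>
        induction g using Polynomial.induction_on' with
        | add g g' hg hg' => rw [map_add]; exact add_mem hg hg'
        | monomial n c =>
          rw [← Polynomial.C_mul_X_pow_eq_monomial, map_mul, map_pow, AdjoinRoot.mk_X]
          exact mul_mem (hc c) (pow_mem hr n)
    · obtain ⟨φ, hφ⟩ := S.exists_hom z fun b hb => hz b (Finset.mem_insert_of_mem hb)
      refine ⟨AdjoinRoot.liftAlgHom f φ (z a) ?_, fun b hb => ?_⟩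
      · simp only [f, Polynomial.eval₂_sub, Polynomial.eval₂_X_pow, Polynomial.eval₂_C, sub_eq_zero]
        exact (hz a (Finset.mem_insert_self a s)).trans (φ.commutes a).symm
      · rcases eq_or_ne b a with rfl | hba
        · rw [if_pos rfl]; exact AdjoinRoot.liftAlgHom_root _ _ _ _
        · rw [if_neg hba]
          exact (AdjoinRoot.liftAlgHom_of _ _ _ _ _).trans (hφ b ((Finset.mem_insert.1 hb).resolve_left hba))

variable (R) (p : ℕ)

/-- relations of the root tower -/
def rel : Ideal (MvPolynomial (R × ℕ) R) :=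
  Ideal.span (Set.range (fun a : R => MvPolynomial.X (a, 0) - MvPolynomial.C a) ∪
    Set.range (fun c : R × ℕ => MvPolynomial.X (c.1, c.2 + 1) ^ p - MvPolynomial.X c))

/-- all `p`-power roots adjoined -/
abbrev Root : Type u := MvPolynomial (R × ℕ) R ⧸ rel R p

/-- the generators -/
def rt (a : R) (k : ℕ) : Root R p := Ideal.Quotient.mk _ (MvPolynomial.X (a, k))

variable {R p}

theorem rt_zero (a : R) : rt R p a 0 = algebraMap R (Root R p) a :=
  Ideal.Quotient.mk_eq_mk_iff_sub_mem _ _ |>.2 (Ideal.subset_span (Or.inl ⟨a, rfl⟩))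

theorem rt_succ (a : R) (k : ℕ) : rt R p a (k + 1) ^ p = rt R p a k :=
  (map_pow _ _ _).symm.trans
    ((Ideal.Quotient.mk_eq_mk_iff_sub_mem _ _).2 (Ideal.subset_span (Or.inr ⟨(a, k), rfl⟩)))

theorem rt_pow (a : R) (k : ℕ) : ∀ j, rt R p a (k + j) ^ p ^ j = rt R p a k
  | 0 => by simp
  | j + 1 => by rw [pow_succ', pow_mul, ← add_assoc, rt_succ, rt_pow a k j]

theorem rt_pow_eq (a : R) (N : ℕ) : rt R p a N ^ p ^ N = algebraMap R (Root R p) a := by
  have := rt_pow (p := p) a 0 N
  rwa [zero_add, rt_zero] at this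

theorem pVanish [CharP R p] : (p : Root R p) = 0 := by
  rw [← map_natCast (algebraMap R (Root R p)), CharP.cast_eq_zero, map_zero]

section Stages

/-- the map of a stage to the root tower -/
theorem exists_toRoot {s : Finset R} {N : ℕ} (S : Stage R s (p ^ N)) :
    ∃ φ : S.A →ₐ[R] Root R p, ∀ a ∈ s, φ (S.y a) = rt R p a N :=
  S.exists_hom _ fun a _ => rt_pow_eq a N

/-- finitely many elements lie in a stage -/
theorem exists_bound (E : Finset (Root R p)) :
    ∃ (s : Finset R) (N : ℕ), ∀ (S : Stage R s (p ^ N)) (φ : S.A →ₐ[R] Root R p),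
      (∀ a ∈ s, φ (S.y a) = rt R p a N) → ∀ e ∈ E, e ∈ φ.range := by
  classical
  choose P hP using fun e : Root R p => Ideal.Quotient.mk_surjective e
  let V : Finset (R × ℕ) := E.biUnion fun e => (P e).vars
  refine ⟨V.image Prod.fst, V.sup Prod.snd, fun S φ hφ e he => ?_⟩
  set N := V.sup Prod.snd
  have key : ∀ c ∈ V, rt R p c.1 c.2 ∈ φ.range := fun c hc => by
    have hle : c.2 ≤ N := Finset.le_sup (f := Prod.snd) hc
    rw [← rt_pow (p := p) c.1 c.2 (N - c.2), Nat.add_sub_cancel' hle, ← hφ c.1 (Finset.mem_image.2 ⟨c, hc, rfl⟩), ← map_pow]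
    exact ⟨_, rfl⟩
  have h1 : P e ∈ Algebra.adjoin R (MvPolynomial.X '' ((P e).vars : Set (R × ℕ))) := by
    exact MvPolynomial.mem_supported_vars _
  have h2 : Algebra.adjoin R (MvPolynomial.X '' ((P e).vars : Set (R × ℕ))) ≤
      φ.range.comap (Ideal.Quotient.mkₐ R (rel R p)) := by
    refine Algebra.adjoin_le ?_
    rintro _ ⟨c, hc, rfl⟩
    exact key c (Finset.mem_biUnion.2 ⟨e, he, hc⟩)
  have h3 := h2 h1
  rw [Subalgebra.mem_comap] at h3
  exact hP e ▸ h3

/-- an element of a stage killed in the tower is killed in a later stage -/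
theorem exists_kill {s : Finset R} {N : ℕ} (S : Stage R s (p ^ N)) (φ : S.A →ₐ[R] Root R p)
    (hφ : ∀ a ∈ s, φ (S.y a) = rt R p a N) (hp : 0 < p) (E : Finset S.A) (hE : ∀ e ∈ E, φ e = 0) :
    ∃ (s' : Finset R) (N' : ℕ) (S' : Stage R s' (p ^ N')) (φ' : S'.A →ₐ[R] Root R p) (ψ : S.A →ₐ[R] S'.A),
      φ'.comp ψ = φ ∧ (∀ a ∈ s', φ' (S'.y a) = rt R p a N') ∧ ∀ e ∈ E, ψ e = 0 := by
  classical
  have hgen : (MvPolynomial.aeval fun a : s => S.y a).range = ⊤ := S.gen _ fun a ha =>
    ⟨MvPolynomial.X ⟨a, ha⟩, MvPolynomial.aeval_X _ _⟩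
  have hsurj : Function.Surjective (MvPolynomial.aeval (R := R) fun a : s => S.y a) := fun x => by
    have : x ∈ (MvPolynomial.aeval fun a : s => S.y a).range := hgen ▸ Algebra.mem_top
    exact this
  choose P hP using hsurj
  let lft : MvPolynomial s R →ₐ[R] MvPolynomial (R × ℕ) R := MvPolynomial.aeval fun a => MvPolynomial.X ((a : R), N)
  have hlft : (Ideal.Quotient.mkₐ R (rel R p)).comp lft = φ.comp (MvPolynomial.aeval fun a : s => S.y a) :=
    MvPolynomial.algHom_ext fun a => by simp [lft, hφ a a.2, rt]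
  have hmem : ∀ e ∈ E, lft (P e) ∈ rel R p := fun e he => by
    refine Ideal.Quotient.eq_zero_iff_mem.1 ?_
    have := AlgHom.congr_fun hlft (P e)
    simp only [AlgHom.comp_apply, hP, hE e he] at this
    exact this
  -- finitely many relations are used
  obtain ⟨s₁, N₁, hrel⟩ : ∃ (s₁ : Finset R) (N₁ : ℕ), ∀ e ∈ E, lft (P e) ∈ Ideal.span
      (Set.range (fun a : s₁ => MvPolynomial.X ((a : R), 0) - MvPolynomial.C (a : R)) ∪
        Set.range (fun c : s₁ × Fin N₁ => MvPolynomial.X ((c.1 : R), (c.2 : ℕ) + 1) ^ p -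
          MvPolynomial.X ((c.1 : R), (c.2 : ℕ)))) := by
    have h' : ∀ e ∈ E, ∃ T : Finset (MvPolynomial (R × ℕ) R), (↑T : Set (MvPolynomial (R × ℕ) R)) ⊆
        (Set.range (fun a : R => MvPolynomial.X (a, 0) - MvPolynomial.C a) ∪
          Set.range (fun c : R × ℕ => MvPolynomial.X (c.1, c.2 + 1) ^ p - MvPolynomial.X c)) ∧
          lft (P e) ∈ Submodule.span (MvPolynomial (R × ℕ) R) (T : Set (MvPolynomial (R × ℕ) R)) := fun e he =>
      Submodule.mem_span_finite_of_mem_span (hmem e he)
    choose T hT hT' using h'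
    let U : Finset (MvPolynomial (R × ℕ) R) := E.attach.biUnion fun e => T e.1 e.2
    have hU : ∀ u ∈ U, ∃ c : R × ℕ, u = MvPolynomial.X (c.1, 0) - MvPolynomial.C c.1 ∨
        u = MvPolynomial.X (c.1, c.2 + 1) ^ p - MvPolynomial.X c := fun u hu => by
      obtain ⟨e, -, he⟩ := Finset.mem_biUnion.1 hu
      rcases hT e.1 e.2 he with ⟨a, rfl⟩ | ⟨c, rfl⟩
      · exact ⟨(a, 0), Or.inl rfl⟩
      · exact ⟨c, Or.inr rfl⟩
    choose c hc using hU
    let C : Finset (R × ℕ) := U.attach.image fun u => c u.1 u.2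
    refine ⟨C.image Prod.fst, C.sup Prod.snd + 1, fun e he => ?_⟩
    refine Submodule.span_mono (fun u hu => ?_) (hT' e he)
    have huU : u ∈ U := Finset.mem_biUnion.2 ⟨⟨e, he⟩, Finset.mem_attach _ _, hu⟩
    have hcC : c u huU ∈ C := Finset.mem_image.2 ⟨⟨u, huU⟩, Finset.mem_attach _ _, rfl⟩
    rcases hc u huU with h | h
    · exact Or.inl ⟨⟨_, Finset.mem_image.2 ⟨_, hcC, rfl⟩⟩, h.symm⟩
    · exact Or.inr ⟨(⟨_, Finset.mem_image.2 ⟨_, hcC, rfl⟩⟩,
        ⟨(c u huU).2, Nat.lt_succ_of_le (Finset.le_sup (f := Prod.snd) hcC)⟩), h.symm⟩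
  obtain ⟨S'⟩ := exists_stage (s ∪ s₁) (q := p ^ (N + N₁)) (pow_pos hp _)
  obtain ⟨φ', hφ'⟩ := exists_toRoot S'
  let ev : MvPolynomial (R × ℕ) R →ₐ[R] S'.A := MvPolynomial.aeval fun c => S'.y c.1 ^ p ^ (N + N₁ - c.2)
  obtain ⟨ψ, hψ⟩ := S.exists_hom (fun a => S'.y a ^ p ^ N₁) fun a ha => by
    rw [← pow_mul, ← pow_add, add_comm N₁ N]
    exact S'.pow_y a (Finset.mem_union_left _ ha)
  refine ⟨_, _, S', φ', ψ, ?_, hφ', fun e he => ?_⟩
  · refine AlgHom.ext fun x => ?_
    rw [← hP x, ← AlgHom.comp_apply, ← AlgHom.comp_apply φ]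
    refine congrArg (fun f : MvPolynomial s R →ₐ[R] Root R p => f (P x)) (MvPolynomial.algHom_ext fun a => ?_)
    simp only [AlgHom.comp_apply, MvPolynomial.aeval_X, hψ a a.2, hφ a a.2, map_pow,
      hφ' a (Finset.mem_union_left _ a.2)]
    exact rt_pow _ N N₁
  · have h : ev.comp lft = ψ.comp (MvPolynomial.aeval fun a : s => S.y a) := MvPolynomial.algHom_ext fun a => by
      simp [ev, lft, hψ a a.2]
    rw [← hP e, ← AlgHom.comp_apply, ← h]
    show ev (lft (P e)) = 0
    have hker : Ideal.span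
        (Set.range (fun a : s₁ => MvPolynomial.X ((a : R), 0) - MvPolynomial.C (a : R)) ∪
          Set.range (fun c : s₁ × Fin N₁ => MvPolynomial.X ((c.1 : R), (c.2 : ℕ) + 1) ^ p -
            MvPolynomial.X ((c.1 : R), (c.2 : ℕ)))) ≤ RingHom.ker ev := by
      rw [Ideal.span_le]
      rintro _ (⟨a, rfl⟩ | ⟨⟨a, k⟩, rfl⟩)
      · show ev _ = 0
        simp only [ev, map_sub, MvPolynomial.aeval_X, MvPolynomial.aeval_C, Nat.sub_zero, sub_eq_zero]
        exact S'.pow_y a (Finset.mem_union_right _ a.2)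
      · show ev _ = 0
        simp only [ev, map_sub, map_pow, MvPolynomial.aeval_X, sub_eq_zero]
        rw [← pow_mul, ← pow_succ]
        congr 2
        have := k.2
        omega
    exact hker (hrel e he)

theorem algebraMap_injective [Nontrivial R] (hp : 0 < p) : Function.Injective (algebraMap R (Root R p)) := by
  rw [injective_iff_map_eq_zero]
  intro r hr
  obtain ⟨S⟩ := exists_stage (∅ : Finset R) (q := p ^ 0) (pow_pos hp _)
  obtain ⟨φ, hφ⟩ := exists_toRoot S
  classical
  obtain ⟨_, _, S', _, ψ, -, -, h⟩ := exists_kill S φ hφ hp {algebraMap R S.A r} (by simp [hr])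
  have h0 := h _ (Finset.mem_singleton_self _)
  rw [AlgHom.commutes] at h0
  haveI := S'.nontrivial ‹_›
  exact (FaithfulSMul.algebraMap_injective R S'.A) (h0.trans (map_zero _).symm)

/-- every element has a power in the base -/
theorem exists_pow_mem [hp : Fact p.Prime] [CharP R p] (x : Root R p) :
    ∃ K, x ^ p ^ K ∈ (algebraMap R (Root R p)).range := by
  haveI : Nontrivial R := CharP.nontrivial_of_char_ne_one hp.out.ne_one
  haveI : CharP (Root R p) p := charP_of_injective_algebraMap (algebraMap_injective hp.out.pos) p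
  have step : ∀ {y : Root R p} {K L : ℕ}, K ≤ L → y ^ p ^ K ∈ (algebraMap R (Root R p)).range →
      y ^ p ^ L ∈ (algebraMap R (Root R p)).range := fun {y K L} h hy => by
    rw [show L = K + (L - K) by omega, pow_add, pow_mul]; exact pow_mem hy _
  obtain ⟨P, rfl⟩ := Ideal.Quotient.mk_surjective x
  induction P using MvPolynomial.induction_on with
  | C r => exact ⟨0, by rw [pow_zero, pow_one]; exact ⟨r, rfl⟩⟩
  | add a b ha hb =>
    obtain ⟨K, hK⟩ := ha
    obtain ⟨L, hL⟩ := hb
    refine ⟨max K L, ?_⟩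
    rw [map_add, add_pow_char_pow]
    exact add_mem (step (le_max_left _ _) hK) (step (le_max_right _ _) hL)
  | mul_X a c ha =>
    obtain ⟨K, hK⟩ := ha
    refine ⟨max K c.2, ?_⟩
    rw [map_mul, mul_pow]
    exact mul_mem (step (le_max_left _ _) hK) (step (le_max_right _ _) ⟨c.1, (rt_pow_eq c.1 c.2).symm⟩)

theorem charP_root [hp : Fact p.Prime] [CharP R p] : CharP (Root R p) p := by
  haveI : Nontrivial R := CharP.nontrivial_of_char_ne_one hp.out.ne_one
  exact charP_of_injective_algebraMap (algebraMap_injective hp.out.pos) p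

theorem frobenius_surjective [hp : Fact p.Prime] [CharP R p] [CharP (Root R p) p] :
    Function.Surjective (frobenius (Root R p) p) := by
  intro x
  obtain ⟨P, rfl⟩ := Ideal.Quotient.mk_surjective x
  induction P using MvPolynomial.induction_on with
  | C r =>
    refine ⟨rt R p r 1, ?_⟩
    rw [frobenius_def]
    exact (rt_succ r 0).trans (rt_zero r)
  | add a b ha hb =>
    obtain ⟨a', ha'⟩ := ha
    obtain ⟨b', hb'⟩ := hb
    exact ⟨a' + b', by rw [map_add, map_add, ha', hb']⟩
  | mul_X a c ha =>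
    obtain ⟨a', ha'⟩ := ha
    refine ⟨a' * rt R p c.1 (c.2 + 1), ?_⟩
    rw [map_mul, map_mul, ha', frobenius_def, rt_succ]
    rfl

end Stages

end Groth.L07.ExtShGa
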