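import Groth.Agent.L07.GaExt.PerfectPic
import Groth.Agent.L07.GaExt.FrobExt
import Groth.Agent.L19.ProjBdl.PullComp
import Groth.Agent.L07.ExtShGa.RootTower

/-!
# Invertible modules on the affine line become trivial after adjoining finitely many roots
-/

universe u

open CategoryTheory CategoryTheory.Limits AlgebraicGeometry Opposite TopologicalSpace
open MonoidalCategory CartesianMonoidalCategory MonObj
open Groth.L18.Frame (rs ro rs_rs rs_self rs_smul ro_ro ro_self IsFrame pull pull_rs pull_smul)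

set_option autoImplicit false
set_option backward.isDefEq.respectTransparency false
set_option backward.isDefEq.respectTransparency.types false
set_option linter.style.haveILetI false
set_option maxHeartbeats 800000

noncomputable section

namespace Groth.L07.ExtShGa

/-- triviality over an affine scheme descends to any stage containing finitely many functions -/
theorem exists_finset {X Y : Scheme.{u}} [IsAffine X] [IsAffine Y] (κ : Y ⟶ X) {L : X.Modules}
    (hL : PicF.IsInvertible L) (h : Nonempty ((Scheme.Modules.pullback κ).obj L ≅ Coh.structureModule Y)) :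
    ∃ D : Finset Γ(Y, ⊤), ∀ (X' : Scheme.{u}) [IsAffine X'] (i : Y ⟶ X') (k : X' ⟶ X) [Surjective i],
      i ≫ k = κ → (∀ d ∈ D, ∃ d', i.appTop d' = d) →
        Nonempty ((Scheme.Modules.pullback k).obj L ≅ Coh.structureModule X') := by
  classical
  obtain ⟨ψ⟩ := h
  have hone : IsFrame (Coh.structureModule Y) ⊤ (1 : Γ(Y, ⊤)) := fun V h => by
    refine (Eq.mpr (congrArg Function.Bijective (funext fun c => ?_)) Function.bijective_id)
    show c * ro h 1 = c
    rw [ro, map_one]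
    exact _root_.mul_one c
  obtain ⟨σ, hσ⟩ : ∃ σ : Γ((Scheme.Modules.pullback κ).obj L, ⊤), IsFrame _ ⊤ σ :=
    ⟨_, Groth.L12.CurveFam.isFrame_map ψ.symm hone⟩
  choose t O hxO hO using Groth.L06.PicHomotopy.exists_globalFrame hL
  choose c hc using fun x : X => hσ.exists_coeff le_rfl (pull κ L ⊤ (t x))
  simp only [rs_self] at hc
  have hspan : Ideal.span (Set.range c) = ⊤ := by
    rw [← (isAffineOpen_top Y).iSup_basicOpen_eq_self_iff, eq_top_iff]
    intro y _
    refine Opens.mem_iSup.2 ⟨⟨_, κ y, rfl⟩, ?_⟩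
    have h1 := (hO (κ y)).pullback κ L
    rw [← pull_rs κ L (le_top : O (κ y) ≤ ⊤), ← hc (κ y), rs_smul] at h1
    have hu := Groth.L18.Frame.isUnit_of_isFrame (hσ.mono le_top) h1
    refine (Y.mem_basicOpen _ y (show y ∈ (⊤ : Y.Opens) from trivial)).2 ?_
    have := hu.map (Y.presheaf.germ (κ ⁻¹ᵁ O (κ y)) y (hxO (κ y))).hom
    exact Eq.mp (congrArg IsUnit (TopCat.Presheaf.germ_res_apply Y.presheaf _ _ _ _)) this
  obtain ⟨d, hd⟩ := (Finsupp.mem_ideal_span_range_iff_exists_finsupp).1 ((Ideal.eq_top_iff_one _).1 hspan)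
  refine ⟨d.support.image d, fun X' _ i k _ e hi => ?_⟩
  subst e
  choose d' hd' using fun x (hx : x ∈ d.support) => hi (d x) (Finset.mem_image_of_mem d hx)
  let L₁ := (Scheme.Modules.pullback k).obj L
  let Φ := (Scheme.Modules.pullbackComp i k).symm.app L
  let σ₂ : Γ((Scheme.Modules.pullback i).obj L₁, ⊤) := Φ.hom.app ⊤ σ
  have hσ₂ : IsFrame ((Scheme.Modules.pullback i).obj L₁) ⊤ σ₂ := Groth.L12.CurveFam.isFrame_map Φ hσ
  have hc₂ : ∀ x, (c x • σ₂ : Γ((Scheme.Modules.pullback i).obj L₁, ⊤)) = pull i L₁ ⊤ (pull k L ⊤ (t x)) := fun x => by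
    refine Eq.trans ?_ (Groth.L19.ProjBdl.pull_comp i k L ⊤ (t x))
    refine ((Φ.hom.app_smul (U := ⊤) (c x) σ).symm).trans ?_
    exact congrArg (Φ.hom.app ⊤) (hc x)
  let m : Γ(L₁, ⊤) := ∑ x ∈ d.support.attach, d' x.1 x.2 • (show Γ(L₁, ⊤) from pull k L ⊤ (t x.1))
  have hm : pull i L₁ ⊤ m = σ₂ := by
    have e : pull i L₁ ⊤ m = ∑ x ∈ d.support.attach, (show Γ(Y, i ⁻¹ᵁ ⊤) from d x.1) •
        pull i L₁ ⊤ (show Γ(L₁, ⊤) from pull k L ⊤ (t x.1)) := by
      show pull i L₁ ⊤ (∑ x ∈ d.support.attach, d' x.1 x.2 • (show Γ(L₁, ⊤) from pull k L ⊤ (t x.1))) = _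
      rw [show pull i L₁ ⊤ (∑ x ∈ d.support.attach, d' x.1 x.2 • (show Γ(L₁, ⊤) from pull k L ⊤ (t x.1))) =
          ∑ x ∈ d.support.attach, pull i L₁ ⊤ (d' x.1 x.2 • (show Γ(L₁, ⊤) from pull k L ⊤ (t x.1))) from
        map_sum (((Scheme.Modules.pullbackPushforwardAdjunction i).unit.app L₁).app ⊤).hom _ _]
      exact Finset.sum_congr rfl fun x _ => by rw [pull_smul, ← hd' x.1 x.2]; rfl
    rw [e, ← one_smul Γ(Y, ⊤) σ₂, show (1 : Γ(Y, ⊤)) = ∑ x ∈ d.support.attach, d x.1 * c x.1 from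
      hd.symm.trans (Finset.sum_attach d.support fun x => d x * c x).symm, Finset.sum_smul]
    exact Finset.sum_congr rfl fun x _ => by rw [mul_smul, hc₂]
  refine Groth.L08.Cube.nonempty_iso_of_frame_top (σ := m) ?_
  have hloc : ∀ z : X', ∃ U : X'.Opens, z ∈ U ∧ IsFrame L₁ U (rs L₁ le_top m) := fun z => by
    obtain ⟨y, rfl⟩ := i.surjective z
    set x := k (i y)
    have hF := (hO x).pullback k L
    obtain ⟨a, ha⟩ := hF.exists_coeff le_rfl (rs L₁ le_top m)
    rw [rs_self] at ha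
    refine Groth.L06.PicHomotopy.exists_frame_of_isUnit_germ hF ha ?_
    show y ∈ i ⁻¹ᵁ X'.basicOpen a
    rw [Scheme.preimage_basicOpen]
    have h1 := congrArg (pull i L₁ (k ⁻¹ᵁ O x)) ha
    rw [← pull_rs k L (le_top : O x ≤ ⊤)] at h1
    erw [pull_smul, ← pull_rs i L₁ (le_top : k ⁻¹ᵁ O x ≤ ⊤), ← pull_rs i L₁ (le_top : k ⁻¹ᵁ O x ≤ ⊤), hm, ← hc₂ x,
      rs_smul, smul_smul] at h1
    have h2 : i.app (k ⁻¹ᵁ O x) a * ro le_top (c x) = 1 :=
      (hσ₂.mono le_top).inj le_rfl (by rw [rs_self, one_smul]; exact h1)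
    refine (Y.mem_basicOpen _ y (hxO x)).2 ?_
    exact (IsUnit.of_mul_eq_one _ h2).map _
  choose U hxU hU using hloc
  exact IsFrame.of_cover U (fun _ => le_top) (fun x _ => Opens.mem_iSup.2 ⟨x, hxU x⟩) hU

variable {R : Type u} [CommRing R]

/-- coefficientwise maps of affine spaces -/
abbrev lineMap {A : Type u} [CommRing A] (f : R →+* A) :
    Spec (CommRingCat.of (MvPolynomial (Fin 1) A)) ⟶ Spec (CommRingCat.of (MvPolynomial (Fin 1) R)) :=
  Spec.map (CommRingCat.ofHom (MvPolynomial.map f))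

/-- the origin -/
abbrev origin (R : Type u) [CommRing R] :
    Spec (CommRingCat.of R) ⟶ Spec (CommRingCat.of (MvPolynomial (Fin 1) R)) :=
  Spec.map (CommRingCat.ofHom (MvPolynomial.constantCoeff (R := R) (σ := Fin 1)))

theorem origin_lineMap {A : Type u} [CommRing A] (f : R →+* A) :
    origin A ≫ lineMap f = Spec.map (CommRingCat.ofHom f) ≫ origin R := by
  rw [← Spec.map_comp, ← Spec.map_comp]
  refine congrArg Spec.map (CommRingCat.hom_ext (MvPolynomial.ringHom_ext (fun r => ?_) fun i => ?_))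
  · simp
  · simp

theorem nonempty_iso_polyOb (p : ℕ) [Fact p.Prime] (A : Type u) [CommRing A] [CharP A p]
    (hF : Function.Surjective (frobenius A p)) {L : (Spec (CommRingCat.of (MvPolynomial (Fin 1) A))).Modules}
    (hL : PicF.IsInvertible L)
    (h0 : Nonempty ((Scheme.Modules.pullback (origin A)).obj L ≅ Coh.structureModule _)) :
    Nonempty (L ≅ Coh.structureModule _) := by
  let j : Groth.L07.GaExt.polyOb A 1 ⟶ Red.Ga (Spec (CommRingCat.of A)) :=
    Groth.L25.GaPts.ptOfElt (Groth.L07.GaExt.polyFn (MvPolynomial.X 0))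
  let k : Red.Ga (Spec (CommRingCat.of A)) ⟶ Groth.L07.GaExt.polyOb A 1 :=
    Groth.L07.GaExt.ev fun _ => Red.gaFn (𝟙 (Red.Ga (Spec (CommRingCat.of A))))
  have hev : ∀ (T : Over (Spec (CommRingCat.of A))) (a b : T ⟶ Groth.L07.GaExt.polyOb A 1),
      (∀ i, Groth.L07.GaExt.fn a (Groth.L07.GaExt.polyFn (MvPolynomial.X i)) =
        Groth.L07.GaExt.fn b (Groth.L07.GaExt.polyFn (MvPolynomial.X i))) → a = b := fun T a b e => by
    haveI : IsAffine (Groth.L07.GaExt.polyOb A 1).left := inferInstanceAs (IsAffine (Spec _))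
    refine Over.OverMorphism.ext (ext_of_isAffine ?_)
    refine (cancel_epi (Scheme.ΓSpecIso (CommRingCat.of (MvPolynomial (Fin 1) A))).inv).1
      (CommRingCat.hom_ext (MvPolynomial.ringHom_ext (fun r => ?_) e))
    show Groth.L07.GaExt.fn a (Groth.L07.GaExt.polyFn (MvPolynomial.C r)) =
      Groth.L07.GaExt.fn b (Groth.L07.GaExt.polyFn (MvPolynomial.C r))
    rw [← RingHom.comp_apply Groth.L07.GaExt.polyFn, ← Groth.L07.GaExt.cst_polyOb, Groth.L07.GaExt.fn_cst,
      Groth.L07.GaExt.fn_cst]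
  have hjk : j ≫ k = 𝟙 _ := hev _ _ _ fun i => by
    rw [Groth.L07.GaExt.fn_comp, Groth.L07.GaExt.fn_id, Groth.L07.GaExt.fn_ev, MvPolynomial.eval₂_X]
    show j.left.appTop (Red.gaFn (𝟙 _)) = _
    rw [← Groth.L25.GaPts.gaFn_comp, Category.comp_id, Groth.L25.GaPts.gaFn_ptOfElt, Subsingleton.elim i 0]
  let o : 𝟙_ (Over (Spec (CommRingCat.of A))) ⟶ Groth.L07.GaExt.polyOb A 1 :=
    Over.homMk (origin A) (by
      show Spec.map _ ≫ Spec.map _ = 𝟙 _
      rw [← Spec.map_comp]
      show Spec.map _ = 𝟙 _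
      rw [← Spec.map_id]
      refine congrArg Spec.map (CommRingCat.hom_ext (RingHom.ext fun r => ?_))
      exact MvPolynomial.constantCoeff_C _ r)
  have ho : (1 : 𝟙_ (Over (Spec (CommRingCat.of A))) ⟶ Red.Ga (Spec (CommRingCat.of A))) ≫ k = o := hev _ _ _ fun i => by
    rw [Groth.L07.GaExt.fn_comp, Groth.L07.GaExt.fn_ev, MvPolynomial.eval₂_X]
    show (1 : 𝟙_ (Over (Spec (CommRingCat.of A))) ⟶ Red.Ga _).left.appTop (Red.gaFn (𝟙 _)) = _
    rw [← Groth.L25.GaPts.gaFn_comp, Category.comp_id, Groth.L25.GaPts.gaFn_one]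
    show 0 = (Spec.map (CommRingCat.ofHom (MvPolynomial.constantCoeff (R := A) (σ := Fin 1)))).appTop
      ((Scheme.ΓSpecIso (CommRingCat.of (MvPolynomial (Fin 1) A))).inv (MvPolynomial.X i))
    rw [← ConcreteCategory.comp_apply, ← Scheme.ΓSpecIso_inv_naturality, ConcreteCategory.comp_apply]
    simp
  let M := (Scheme.Modules.pullback k.left).obj L
  obtain ⟨φ⟩ := h0
  obtain ⟨e⟩ := Groth.L07.GaExt.nonempty_iso_Ga p A hF (L := M) (Groth.L18.Ample.isInvertible_pullback _ hL)
    ⟨(Scheme.Modules.pullbackComp _ k.left).app L ≪≫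
      (Scheme.Modules.pullbackCongr (congrArg (fun h : 𝟙_ (Over (Spec (CommRingCat.of A))) ⟶
        Groth.L07.GaExt.polyOb A 1 => h.left) ho)).app L ≪≫ φ⟩
  exact ⟨((Scheme.Modules.pullbackId _).app L).symm ≪≫
    (Scheme.Modules.pullbackCongr (congrArg (fun h : Groth.L07.GaExt.polyOb A 1 ⟶ Groth.L07.GaExt.polyOb A 1 =>
      h.left) hjk).symm).app L ≪≫ ((Scheme.Modules.pullbackComp j.left k.left).app L).symm ≪≫
    (Scheme.Modules.pullback j.left).mapIso e ≪≫ PicLoc.pullbackStructureIso _⟩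

theorem exists_pow_mem_map (p : ℕ) [Fact p.Prime] {A A' : Type u} [CommRing A] [CommRing A'] [CharP A' p]
    (g : A →+* A') (hg : ∀ x, ∃ K, x ^ p ^ K ∈ g.range) {σ : Type} (P : MvPolynomial σ A') :
    ∃ K, P ^ p ^ K ∈ (MvPolynomial.map (σ := σ) g).range := by
  haveI : ExpChar (MvPolynomial σ A') p := ExpChar.prime Fact.out
  induction P using MvPolynomial.induction_on with
  | C r =>
    obtain ⟨K, r', hr'⟩ := hg r
    exact ⟨K, MvPolynomial.C r', by rw [MvPolynomial.map_C, hr', map_pow]⟩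
  | add a b ha hb =>
    obtain ⟨K, hK⟩ := ha
    obtain ⟨L', hL'⟩ := hb
    refine ⟨K + L', ?_⟩
    rw [add_pow_char_pow, pow_add, pow_mul]
    refine add_mem (pow_mem hK _) ?_
    rw [mul_comm (p ^ K), pow_mul]
    exact pow_mem hL' _
  | mul_X a i ha =>
    obtain ⟨K, hK⟩ := ha
    exact ⟨K, by rw [mul_pow]; exact mul_mem hK ⟨MvPolynomial.X i ^ p ^ K, by simp⟩⟩

/-- invertible modules on the line, trivial at the origin, become trivial on a stage -/
theorem exists_stage_trivial (p : ℕ) [hp : Fact p.Prime] [CharP R p]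
    {L : (Spec (CommRingCat.of (MvPolynomial (Fin 1) R))).Modules} (hL : PicF.IsInvertible L)
    (h0 : Nonempty ((Scheme.Modules.pullback (origin R)).obj L ≅ Coh.structureModule _)) :
    ∃ (s : Finset R) (N : ℕ) (S : Stage R s (p ^ N)),
      Nonempty ((Scheme.Modules.pullback (lineMap (algebraMap R S.A))).obj L ≅ Coh.structureModule _) := by
  classical
  haveI : CharP (Root R p) p := charP_root
  haveI : Nontrivial R := CharP.nontrivial_of_char_ne_one hp.out.ne_one
  let κ := lineMap (algebraMap R (Root R p))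
  obtain ⟨φ0⟩ := h0
  have htriv : Nonempty ((Scheme.Modules.pullback κ).obj L ≅ Coh.structureModule _) :=
    nonempty_iso_polyOb p (Root R p) frobenius_surjective (Groth.L18.Ample.isInvertible_pullback _ hL)
      ⟨(Scheme.Modules.pullbackComp (origin (Root R p)) κ).app L ≪≫
        (Scheme.Modules.pullbackCongr (origin_lineMap (algebraMap R (Root R p)))).app L ≪≫
        ((Scheme.Modules.pullbackComp _ (origin R)).app L).symm ≪≫
        (Scheme.Modules.pullback _).mapIso φ0 ≪≫ PicLoc.pullbackStructureIso _⟩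
  obtain ⟨D, hD⟩ := exists_finset κ hL htriv
  let fns : MvPolynomial (Fin 1) (Root R p) →+* Γ(Spec (CommRingCat.of (MvPolynomial (Fin 1) (Root R p))), ⊤) :=
    (Scheme.ΓSpecIso (CommRingCat.of (MvPolynomial (Fin 1) (Root R p)))).inv.hom
  let P : Γ(Spec (CommRingCat.of (MvPolynomial (Fin 1) (Root R p))), ⊤) → MvPolynomial (Fin 1) (Root R p) :=
    fun d => (Scheme.ΓSpecIso (CommRingCat.of (MvPolynomial (Fin 1) (Root R p)))).hom d
  obtain ⟨s, N, hS⟩ := exists_bound (D.biUnion fun d => (P d).support.image fun m => (P d).coeff m)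
  obtain ⟨S⟩ := exists_stage (R := R) s (q := p ^ N) (pow_pos hp.out.pos N)
  obtain ⟨φ, hφ⟩ := exists_toRoot S
  haveI hsurj : Surjective (lineMap φ.toRingHom) := by
    haveI := S.nontrivial ‹_›
    have hinjR := algebraMap_injective (R := R) (p := p) hp.out.pos
    have hcomp : φ.toRingHom.comp (algebraMap R S.A) = algebraMap R (Root R p) := φ.comp_algebraMap
    haveI : CharP S.A p := charP_of_injective_algebraMap (FaithfulSMul.algebraMap_injective R S.A) p
    have hint : (MvPolynomial.map (σ := Fin 1) (algebraMap R (Root R p))).IsIntegral := fun P => by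
      obtain ⟨K, Q, hQ⟩ := exists_pow_mem_map p (algebraMap R (Root R p)) exists_pow_mem P
      refine ⟨Polynomial.X ^ p ^ K - Polynomial.C Q, Polynomial.monic_X_pow_sub_C _ (pow_ne_zero _ hp.out.ne_zero), ?_⟩
      show Polynomial.eval₂ (MvPolynomial.map (algebraMap R (Root R p))) P _ = 0
      rw [← Polynomial.coe_eval₂RingHom, map_sub, map_pow]
      simp [hQ]
    have hSpow : ∀ x : S.A, ∃ K, x ^ p ^ K ∈ (algebraMap R S.A).range := fun x => by
      have hsurjS : x ∈ (⊤ : Subalgebra R S.A) := Algebra.mem_top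
      let T : Subalgebra R S.A :=
        { carrier := {x | ∃ K, x ^ p ^ K ∈ (algebraMap R S.A).range}
          mul_mem' := by
            rintro a b ⟨K, hK⟩ ⟨L', hL'⟩
            refine ⟨K + L', ?_⟩
            rw [mul_pow]
            refine mul_mem ?_ ?_
            · rw [pow_add, pow_mul]; exact pow_mem hK _
            · rw [pow_add, mul_comm, pow_mul]; exact pow_mem hL' _
          add_mem' := by
            rintro a b ⟨K, hK⟩ ⟨L', hL'⟩
            refine ⟨K + L', ?_⟩
            rw [add_pow_char_pow]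
            refine add_mem ?_ ?_
            · rw [pow_add, pow_mul]; exact pow_mem hK _
            · rw [pow_add, mul_comm, pow_mul]; exact pow_mem hL' _
          algebraMap_mem' := fun r => ⟨0, by rw [pow_zero, pow_one]; exact ⟨r, rfl⟩⟩ }
      have hT : T = ⊤ := S.gen T fun a ha => ⟨N, a, (S.pow_y a ha).symm⟩
      exact (hT ▸ hsurjS : x ∈ T)
    refine ⟨fun x => ?_⟩
    obtain ⟨y, hy⟩ := hint.comap_surjective (MvPolynomial.map_injective _ hinjR)
      (PrimeSpectrum.comap (MvPolynomial.map (σ := Fin 1) (algebraMap R S.A)) x)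
    refine ⟨y, PrimeSpectrum.ext (Ideal.ext fun f => ?_)⟩
    obtain ⟨K, Q, hQ⟩ := exists_pow_mem_map p (algebraMap R S.A) hSpow f
    have hpK := pow_pos hp.out.pos K
    have h1 : f ^ p ^ K ∈ (PrimeSpectrum.comap (MvPolynomial.map φ.toRingHom) y).asIdeal ↔ f ^ p ^ K ∈ x.asIdeal := by
      rw [← hQ]
      have := congrArg (fun z : PrimeSpectrum (MvPolynomial (Fin 1) R) => Q ∈ z.asIdeal) hy
      simp only [PrimeSpectrum.comap_asIdeal, Ideal.mem_comap] at this ⊢
      rw [MvPolynomial.map_map, hcomp]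
      exact Eq.to_iff this
    exact ⟨fun h => x.isPrime.mem_of_pow_mem _ (h1.1 (Ideal.pow_mem_of_mem _ h _ hpK)),
      fun h => (PrimeSpectrum.comap (MvPolynomial.map φ.toRingHom) y).isPrime.mem_of_pow_mem _
        (h1.2 (Ideal.pow_mem_of_mem _ h _ hpK))⟩
  refine ⟨s, N, S, hD _ (lineMap φ.toRingHom) (lineMap (algebraMap R S.A)) ?_ fun d hd => ?_⟩
  · rw [← Spec.map_comp, ← CommRingCat.ofHom_comp]
    refine congrArg Spec.map (congrArg CommRingCat.ofHom (RingHom.ext fun P => ?_))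
    exact (MvPolynomial.map_map _ _ P).trans (congrArg (fun g => MvPolynomial.map g P) φ.comp_algebraMap)
  · have hmem : P d ∈ (MvPolynomial.map (σ := Fin 1) φ.toRingHom).range := by
      rw [MvPolynomial.as_sum (P d)]
      refine sum_mem fun m hm => ?_
      obtain ⟨c, hc⟩ := hS S φ hφ ((P d).coeff m) (Finset.mem_biUnion.2 ⟨d, hd, Finset.mem_image_of_mem _ hm⟩)
      exact ⟨MvPolynomial.monomial m c, by rw [MvPolynomial.map_monomial]; exact congrArg _ hc⟩
    obtain ⟨Q, hQ⟩ := hmem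
    refine ⟨(Scheme.ΓSpecIso (CommRingCat.of (MvPolynomial (Fin 1) S.A))).inv Q, ?_⟩
    rw [← ConcreteCategory.comp_apply, ← Scheme.ΓSpecIso_inv_naturality, ConcreteCategory.comp_apply]
    exact (congrArg _ hQ).trans (Iso.hom_inv_id_apply _ _)

end Groth.L07.ExtShGa
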