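import Groth.Agent.L25.GaGmSplit
import Groth.Agent.L07.ExtShGa.RootTower
import Mathlib.Algebra.Polynomial.Lifts

/-!
# Splitting cocycles of the additive group on a finite stage of the root tower
-/

universe u

set_option autoImplicit false
set_option linter.style.haveILetI false
set_option maxHeartbeats 4000000

noncomputable section

namespace Groth.L07.ExtShGa

theorem map_aeval_vec {R A : Type u} [CommRing R] [CommRing A] (g : R →+* A) {m k : ℕ}
    (v : Fin m → MvPolynomial (Fin k) R) (h : MvPolynomial (Fin m) R) :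
    MvPolynomial.map g (MvPolynomial.aeval v h) =
      MvPolynomial.aeval (fun i => MvPolynomial.map g (v i)) (MvPolynomial.map g h) := by
  induction h using MvPolynomial.induction_on with
  | C r => simp
  | add a b ha hb => simp [ha, hb]
  | mul_X a i ha => simp [ha]

theorem map_aeval_poly {R A : Type u} [CommRing R] [CommRing A] (g : R →+* A) {k : ℕ}
    (v : MvPolynomial (Fin k) R) (f : Polynomial R) :
    MvPolynomial.map g (Polynomial.aeval v f) = Polynomial.aeval (MvPolynomial.map g v) (f.map g) := by
  induction f using Polynomial.induction_on' with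
  | add a b ha hb => simp [ha, hb]
  | monomial n r => simp [← Polynomial.C_mul_X_pow_eq_monomial]

theorem cocycle_map {R A : Type u} [CommRing R] [CommRing A] (g : R →+* A) {h : MvPolynomial (Fin 2) R}
    (hc : Groth.L25.GaGmSplit.Cocycle h) : Groth.L25.GaGmSplit.Cocycle (MvPolynomial.map g h) := by
  refine ⟨?_, ?_, ?_⟩
  · have := congrArg (MvPolynomial.map g) hc.right
    rw [map_aeval_vec, map_one] at this
    convert this using 3
    funext i; fin_cases i <;> simp
  · have := congrArg (MvPolynomial.map g) hc.symm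
    rw [map_aeval_vec] at this
    convert this using 3
    funext i; fin_cases i <;> simp
  · have := congrArg (MvPolynomial.map g) hc.coc
    rw [map_mul, map_mul, map_aeval_vec, map_aeval_vec, map_aeval_vec, map_aeval_vec] at this
    convert this using 4 <;> (funext i; fin_cases i <;> simp)

/-- a symmetric cocycle splits on a finite stage -/
theorem exists_split_stage {R : Type u} [CommRing R] (p : ℕ) [hp : Fact p.Prime] [CharP R p]
    (h : MvPolynomial (Fin 2) R) (hu : IsUnit h) (hc : Groth.L25.GaGmSplit.Cocycle h) :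
    ∃ (s : Finset R) (N : ℕ) (S : Stage R s (p ^ N)) (f : Polynomial S.A), IsUnit f ∧
      Polynomial.aeval (MvPolynomial.X 0 + MvPolynomial.X 1 : MvPolynomial (Fin 2) S.A) f =
        Polynomial.aeval (MvPolynomial.X 0 : MvPolynomial (Fin 2) S.A) f *
          Polynomial.aeval (MvPolynomial.X 1 : MvPolynomial (Fin 2) S.A) f *
          MvPolynomial.map (algebraMap R S.A) h := by
  classical
  haveI : CharP (Root R p) p := charP_root
  have hsurjF : Function.Surjective (frobenius (Root R p) p) := frobenius_surjective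
  have hcR := cocycle_map (algebraMap R (Root R p)) hc
  have huR : IsUnit (MvPolynomial.map (algebraMap R (Root R p)) h) := hu.map _
  obtain ⟨f, hf, hfeq⟩ := Groth.L25.GaGmSplit.exists_split (R := Root R p) (p := p) hsurjF
    (MvPolynomial.map (algebraMap R (Root R p)) h) huR hcR
  obtain ⟨g, hg⟩ := hf.exists_right_inv
  obtain ⟨s, N, hS⟩ := exists_bound (f.support.image f.coeff ∪ g.support.image g.coeff)
  obtain ⟨S⟩ := exists_stage (R := R) s (q := p ^ N) (pow_pos hp.out.pos N)
  obtain ⟨φ, hφ⟩ := exists_toRoot S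
  have hlift : ∀ P : Polynomial (Root R p), (∀ n ∈ P.support, P.coeff n ∈ f.support.image f.coeff ∪ g.support.image g.coeff) →
      ∃ P' : Polynomial S.A, P'.map φ.toRingHom = P := fun P hP => by
    refine (Polynomial.mem_lifts P).1 ((Polynomial.lifts_iff_coeff_lifts P).2 fun n => ?_)
    by_cases hn : n ∈ P.support
    · exact hS S φ hφ _ (hP n hn)
    · rw [Polynomial.notMem_support_iff.1 hn]; exact ⟨0, map_zero _⟩
  obtain ⟨f', hf'⟩ := hlift f fun n hn => Finset.mem_union_left _ (Finset.mem_image_of_mem _ hn)
  obtain ⟨g', hg'⟩ := hlift g fun n hn => Finset.mem_union_right _ (Finset.mem_image_of_mem _ hn)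
  let h' := MvPolynomial.map (algebraMap R S.A) h
  let e₁ : Polynomial S.A := f' * g' - 1
  let e₂ : MvPolynomial (Fin 2) S.A := Polynomial.aeval (MvPolynomial.X 0 + MvPolynomial.X 1 : MvPolynomial (Fin 2) S.A) f' -
    Polynomial.aeval (MvPolynomial.X 0 : MvPolynomial (Fin 2) S.A) f' *
      Polynomial.aeval (MvPolynomial.X 1 : MvPolynomial (Fin 2) S.A) f' * h'
  have he₁ : e₁.map φ.toRingHom = 0 := by simp only [e₁, Polynomial.map_sub, Polynomial.map_mul, Polynomial.map_one, hf', hg', hg, sub_self]
  have he₂ : MvPolynomial.map φ.toRingHom e₂ = 0 := by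
    simp only [e₂, h', map_sub, map_mul, map_aeval_poly, hf', map_add, MvPolynomial.map_X, MvPolynomial.map_map]
    rw [show φ.toRingHom.comp (algebraMap R S.A) = algebraMap R (Root R p) from φ.comp_algebraMap, hfeq, sub_self]
  obtain ⟨s', N', S', φ', ψ, -, -, hψ⟩ := exists_kill S φ hφ hp.out.pos
    (e₁.support.image e₁.coeff ∪ e₂.support.image (fun m => e₂.coeff m)) fun e he => by
      rcases Finset.mem_union.1 he with he | he
      · obtain ⟨n, -, rfl⟩ := Finset.mem_image.1 he
        exact (Polynomial.coeff_map φ.toRingHom n).symm.trans (by rw [he₁, Polynomial.coeff_zero])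
      · obtain ⟨m, -, rfl⟩ := Finset.mem_image.1 he
        exact (MvPolynomial.coeff_map φ.toRingHom e₂ m).symm.trans (by rw [he₂, MvPolynomial.coeff_zero])
  have h₁ : e₁.map ψ.toRingHom = 0 := Polynomial.ext fun n => by
    rw [Polynomial.coeff_map, Polynomial.coeff_zero]
    by_cases hn : n ∈ e₁.support
    · exact hψ _ (Finset.mem_union_left _ (Finset.mem_image_of_mem _ hn))
    · rw [Polynomial.notMem_support_iff.1 hn, map_zero]
  have h₂ : MvPolynomial.map ψ.toRingHom e₂ = 0 := MvPolynomial.ext _ _ fun m => by
    rw [MvPolynomial.coeff_map, MvPolynomial.coeff_zero]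
    by_cases hn : m ∈ e₂.support
    · exact hψ _ (Finset.mem_union_right _ (Finset.mem_image_of_mem (fun m => e₂.coeff m) hn))
    · rw [MvPolynomial.notMem_support_iff.1 hn, map_zero]
  refine ⟨s', N', S', f'.map ψ.toRingHom, IsUnit.of_mul_eq_one (g'.map ψ.toRingHom) ?_, ?_⟩
  · rw [← Polynomial.map_mul, ← sub_eq_zero, ← Polynomial.map_one ψ.toRingHom, ← Polynomial.map_sub]
    exact h₁
  · simp only [e₂, h', map_sub, map_mul, map_aeval_poly, map_add, MvPolynomial.map_X, MvPolynomial.map_map,
      sub_eq_zero] at h₂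
    rwa [show ψ.toRingHom.comp (algebraMap R S.A) = algebraMap R S'.A from ψ.comp_algebraMap] at h₂

end Groth.L07.ExtShGa
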