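import Groth.Agent.L07.ExtShGa.ModuleLift
import Groth.Agent.L07.ExtShGa.LineDescent
import Groth.Agent.L07.ExtShGa.SplitStage
import Groth.Agent.L07.GmFppf.Affine

/-!
# Lifting local homomorphisms of the additive group into quotients by units over finite stages
-/

universe u

open CategoryTheory CategoryTheory.Limits AlgebraicGeometry Opposite
open Groth.L07.GaExt (fn fn_comp fn_id sections_left_exact)

set_option autoImplicit false
set_option backward.defeqAttrib.useBackward true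
set_option backward.isDefEq.respectTransparency false
set_option backward.isDefEq.respectTransparency.types false
set_option linter.style.haveILetI false
set_option maxHeartbeats 1000000

noncomputable section

namespace Groth.L07.ExtShGa

local notation "Kf" => Scheme.fppfPrecoverage

variable {S : Scheme.{u}}

/-- an affine object -/
abbrev ob {R : Type u} [CommRing R] (s : Spec (CommRingCat.of R) ⟶ S) : Over S := Over.mk s

/-- constants -/
def cs {R : Type u} [CommRing R] {s : Spec (CommRingCat.of R) ⟶ S} {W : Over S} (a : W ⟶ ob s) :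
    R →+* Γ(W.left, ⊤) :=
  (Groth.L07.GmFppf.rh a.left).hom

theorem cs_comp {R : Type u} [CommRing R] {s : Spec (CommRingCat.of R) ⟶ S} {W W' : Over S} (b : W' ⟶ W)
    (a : W ⟶ ob s) (r : R) : cs (b ≫ a) r = fn b (cs a r) := by
  show Groth.L07.GmFppf.rh (b.left ≫ a.left) r = _
  rw [Groth.L07.GmFppf.rh_comp]
  rfl

/-- affine space over an affine object -/
abbrev Pn {R : Type u} [CommRing R] (s : Spec (CommRingCat.of R) ⟶ S) (n : ℕ) : Over S :=
  Over.mk (Spec.map (CommRingCat.ofHom (MvPolynomial.C : R →+* MvPolynomial (Fin n) R)) ≫ s)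

/-- the projection -/
def pr {R : Type u} [CommRing R] (s : Spec (CommRingCat.of R) ⟶ S) (n : ℕ) : Pn s n ⟶ ob s :=
  Over.homMk (Spec.map (CommRingCat.ofHom (MvPolynomial.C : R →+* MvPolynomial (Fin n) R))) rfl

/-- functions on affine space -/
abbrev pf {R : Type u} [CommRing R] {n : ℕ} :
    MvPolynomial (Fin n) R →+* Γ(Spec (CommRingCat.of (MvPolynomial (Fin n) R)), ⊤) :=
  (Scheme.ΓSpecIso (CommRingCat.of (MvPolynomial (Fin n) R))).inv.hom

theorem pf_injective {R : Type u} [CommRing R] {n : ℕ} : Function.Injective (pf (R := R) (n := n)) :=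
  (Scheme.ΓSpecIso (CommRingCat.of (MvPolynomial (Fin n) R))).commRingCatIsoToRingEquiv.symm.injective

theorem cs_pr {R : Type u} [CommRing R] (s : Spec (CommRingCat.of R) ⟶ S) (n : ℕ) :
    cs (pr s n) = pf.comp MvPolynomial.C :=
  congrArg CommRingCat.Hom.hom (Groth.L07.GmFppf.rh_specMap (CommRingCat.ofHom MvPolynomial.C))

section Points

variable {R : Type u} [CommRing R] {s : Spec (CommRingCat.of R) ⟶ S} {n : ℕ}

/-- the point with given coordinates -/
def evalPt {W : Over S} (a : W ⟶ ob s) (v : Fin n → Γ(W.left, ⊤)) : W ⟶ Pn s n :=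
  Over.homMk (W.left.toSpecΓ ≫ Spec.map (CommRingCat.ofHom (MvPolynomial.eval₂Hom (cs a) v))) (by
    show (_ ≫ Spec.map _) ≫ Spec.map _ ≫ s = W.hom
    rw [Category.assoc, ← Category.assoc (Spec.map _), ← Spec.map_comp,
      show CommRingCat.ofHom (MvPolynomial.C : R →+* MvPolynomial (Fin n) R) ≫
        CommRingCat.ofHom (MvPolynomial.eval₂Hom (cs a) v) = Groth.L07.GmFppf.rh a.left from
        CommRingCat.hom_ext (RingHom.ext fun r => MvPolynomial.eval₂_C (cs a) v r),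
      ← Category.assoc, Groth.L07.GmFppf.toSpecΓ_rh]
    exact Over.w a)

theorem evalPt_pr {W : Over S} (a : W ⟶ ob s) (v : Fin n → Γ(W.left, ⊤)) : evalPt a v ≫ pr s n = a := by
  refine Over.OverMorphism.ext ?_
  show (W.left.toSpecΓ ≫ Spec.map _) ≫ Spec.map _ = a.left
  rw [Category.assoc, ← Spec.map_comp,
    show CommRingCat.ofHom (MvPolynomial.C : R →+* MvPolynomial (Fin n) R) ≫
      CommRingCat.ofHom (MvPolynomial.eval₂Hom (cs a) v) = Groth.L07.GmFppf.rh a.left from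
      CommRingCat.hom_ext (RingHom.ext fun r => MvPolynomial.eval₂_C (cs a) v r)]
  exact Groth.L07.GmFppf.toSpecΓ_rh a.left

theorem fn_evalPt {W : Over S} (a : W ⟶ ob s) (v : Fin n → Γ(W.left, ⊤)) (h : MvPolynomial (Fin n) R) :
    fn (evalPt a v) (pf h) = MvPolynomial.eval₂ (cs a) v h := by
  show Groth.L07.GmFppf.rh (W.left.toSpecΓ ≫ Spec.map (CommRingCat.ofHom (MvPolynomial.eval₂Hom (cs a) v))) h = _
  rw [Groth.L07.GmFppf.rh_comp_specMap, Groth.L07.GmFppf.rh, Scheme.toSpecΓ_appTop, Iso.inv_hom_id, Category.comp_id]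
  rfl

theorem pt_ext {W : Over S} {t t' : W ⟶ Pn s n} (h1 : t ≫ pr s n = t' ≫ pr s n)
    (h2 : ∀ i, fn t (pf (MvPolynomial.X i)) = fn t' (pf (MvPolynomial.X i))) : t = t' := by
  haveI : IsAffine (Pn s n).left := inferInstanceAs (IsAffine (Spec _))
  refine Over.OverMorphism.ext (ext_of_isAffine ?_)
  refine (cancel_epi (Scheme.ΓSpecIso (CommRingCat.of (MvPolynomial (Fin n) R))).inv).1
    (CommRingCat.hom_ext (MvPolynomial.ringHom_ext (fun r => ?_) h2))
  show fn t (pf (MvPolynomial.C r)) = fn t' (pf (MvPolynomial.C r))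
  rw [← RingHom.comp_apply pf, ← cs_pr s n]
  exact (cs_comp t (pr s n) r).symm.trans ((RingHom.congr_fun (congrArg cs h1) r).trans (cs_comp t' (pr s n) r))

theorem comp_evalPt {W W' : Over S} (b : W' ⟶ W) (a : W ⟶ ob s) (v : Fin n → Γ(W.left, ⊤)) :
    b ≫ evalPt a v = evalPt (b ≫ a) fun i => fn b (v i) := by
  refine pt_ext (by rw [Category.assoc, evalPt_pr, evalPt_pr]) fun i => ?_
  rw [fn_comp, fn_evalPt, fn_evalPt, MvPolynomial.eval₂_X, MvPolynomial.eval₂_X]

theorem fn_eval₂ {W W' : Over S} (b : W' ⟶ W) (a : W ⟶ ob s) (v : Fin n → Γ(W.left, ⊤))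
    (h : MvPolynomial (Fin n) R) :
    fn b (MvPolynomial.eval₂ (cs a) v h) = MvPolynomial.eval₂ (cs (b ≫ a)) (fun i => fn b (v i)) h := by
  rw [← fn_evalPt, ← fn_evalPt, ← fn_comp, comp_evalPt]

end Points

section Change

variable {R A : Type u} [CommRing R] [CommRing A] (g : R →+* A) (s : Spec (CommRingCat.of R) ⟶ S)

/-- the structure map over the new ring -/
abbrev bs : Spec (CommRingCat.of A) ⟶ S := Spec.map (CommRingCat.ofHom g) ≫ s

/-- the change of ring on affine objects -/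
def π : ob (bs g s) ⟶ ob s := Over.homMk (Spec.map (CommRingCat.ofHom g)) rfl

theorem cs_π {W : Over S} (a : W ⟶ ob (bs g s)) : cs (a ≫ π g s) = (cs a).comp g :=
  congrArg CommRingCat.Hom.hom (Groth.L07.GmFppf.rh_comp_specMap a.left (CommRingCat.ofHom g))

/-- the change of ring on lines -/
def lm : Pn (bs g s) 1 ⟶ Pn s 1 :=
  Over.homMk (lineMap g) (by
    show Spec.map _ ≫ Spec.map _ ≫ s = Spec.map _ ≫ Spec.map _ ≫ s
    rw [← Category.assoc, ← Category.assoc, ← Spec.map_comp, ← Spec.map_comp]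
    congr 2
    exact CommRingCat.hom_ext (RingHom.ext fun r => MvPolynomial.map_C g r))

theorem lm_pr : lm g s ≫ pr s 1 = pr (bs g s) 1 ≫ π g s := by
  refine Over.OverMorphism.ext ?_
  show Spec.map _ ≫ Spec.map _ = Spec.map _ ≫ Spec.map _
  rw [← Spec.map_comp, ← Spec.map_comp]
  exact congrArg Spec.map (CommRingCat.hom_ext (RingHom.ext fun r => MvPolynomial.map_C g r))

theorem fn_lm (h : MvPolynomial (Fin 1) R) : fn (lm g s) (pf h) = pf (MvPolynomial.map g h) :=
  (ConcreteCategory.congr_hom (Scheme.ΓSpecIso_inv_naturality (CommRingCat.ofHom (MvPolynomial.map (σ := Fin 1) g))) h).symm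

end Change

section Core

variable {Sh : ShortComplex (BigSite.Ab Kf S)} (i₁ : Sh.X₁.obj ≅ GmPts.unitsPre S) (hSh : Sh.ShortExact)
variable {R : Type u} [CommRing R] {p : ℕ} [hp : Fact p.Prime] [CharP R p] {s : Spec (CommRingCat.of R) ⟶ S}
variable (Φ : ∀ W : Over S, (W ⟶ ob s) → Γ(W.left, ⊤) → Sh.X₃.obj.obj (op W))
  (hnat : ∀ {W W' : Over S} (b : W' ⟶ W) (a : W ⟶ ob s) (v : Γ(W.left, ⊤)),
    Sh.X₃.obj.map b.op (Φ W a v) = Φ W' (b ≫ a) (fn b v))
  (hadd : ∀ (W : Over S) (a : W ⟶ ob s) (v w : Γ(W.left, ⊤)), Φ W a (v + w) = Φ W a v + Φ W a w)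

include i₁ hSh hnat hadd in
/-- on a finite stage the universal section lifts -/
theorem exists_lift_section : ∃ (t : Finset R) (N : ℕ) (T : Stage R t (p ^ N)),
    ∃ s₀ : Sh.X₂.obj.obj (op (Pn (bs (algebraMap R T.A) s) 1)), Sh.g.hom.app _ s₀ =
      Φ _ (pr (bs (algebraMap R T.A) s) 1 ≫ π (algebraMap R T.A) s) (pf (MvPolynomial.X 0)) := by
  obtain ⟨L, hL, -, hz⟩ := exists_module_of_section' i₁ hSh (T := Pn s 1) (Φ _ (pr s 1) (pf (MvPolynomial.X 0)))
  let o : ob s ⟶ Pn s 1 := Over.homMk (origin R) (by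
    show Spec.map _ ≫ Spec.map _ ≫ s = s
    rw [← Category.assoc, ← Spec.map_comp,
      show CommRingCat.ofHom (MvPolynomial.C : R →+* MvPolynomial (Fin 1) R) ≫
        CommRingCat.ofHom (MvPolynomial.constantCoeff (R := R) (σ := Fin 1)) = 𝟙 _ from
        CommRingCat.hom_ext (RingHom.ext fun r => MvPolynomial.constantCoeff_C _ r), Spec.map_id, Category.id_comp])
  have ho : fn o (pf (MvPolynomial.X (0 : Fin 1))) = (0 : Γ((ob s).left, ⊤)) := by
    show (Spec.map (CommRingCat.ofHom (MvPolynomial.constantCoeff (R := R) (σ := Fin 1)))).appTop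
      ((Scheme.ΓSpecIso (CommRingCat.of (MvPolynomial (Fin 1) R))).inv (MvPolynomial.X 0)) = 0
    rw [← ConcreteCategory.comp_apply, ← Scheme.ΓSpecIso_inv_naturality, ConcreteCategory.comp_apply]
    simp
  have h0 : Sh.X₃.obj.map o.op (Φ _ (pr s 1) (pf (MvPolynomial.X 0))) = 0 := by
    rw [hnat, ho]
    have := hadd (ob s) (o ≫ pr s 1) 0 0
    rw [add_zero] at this
    exact left_eq_add.1 this
  obtain ⟨t, N, T, hT⟩ := exists_stage_trivial p hL ((hz _ o).1 h0)
  obtain ⟨s₀, hs₀⟩ := (hz _ (lm (algebraMap R T.A) s)).2 hT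
  refine ⟨t, N, T, s₀, ?_⟩
  rw [hs₀, hnat, lm_pr, fn_lm, MvPolynomial.map_X]

include i₁ hSh hnat hadd in
/-- a lift of the universal section gives, on a finite stage, additive lifts -/
theorem exists_additive_lift (s₀ : Sh.X₂.obj.obj (op (Pn s 1)))
    (hs₀ : Sh.g.hom.app _ s₀ = Φ _ (pr s 1) (pf (MvPolynomial.X 0))) :
    ∃ (t : Finset R) (N : ℕ) (T : Stage R t (p ^ N))
      (Ψ : ∀ W : Over S, (W ⟶ ob (bs (algebraMap R T.A) s)) → Γ(W.left, ⊤) → Sh.X₂.obj.obj (op W)),
      (∀ {W W' : Over S} (b : W' ⟶ W) (a : W ⟶ ob (bs (algebraMap R T.A) s)) (v : Γ(W.left, ⊤)),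
        Sh.X₂.obj.map b.op (Ψ W a v) = Ψ W' (b ≫ a) (fn b v)) ∧
      (∀ (W : Over S) (a : W ⟶ ob (bs (algebraMap R T.A) s)) (v w : Γ(W.left, ⊤)),
        Ψ W a (v + w) = Ψ W a v + Ψ W a w) ∧
      ∀ (W : Over S) (a : W ⟶ ob (bs (algebraMap R T.A) s)) (v : Γ(W.left, ⊤)),
        Sh.g.hom.app (op W) (Ψ W a v) = Φ W (a ≫ π (algebraMap R T.A) s) v := by
  let I := Sh.X₂.obj
  let o : ob s ⟶ Pn s 1 := evalPt (𝟙 _) fun _ => 0
  let e : I.obj (op (Pn s 1)) := s₀ - I.map (pr s 1).op (I.map o.op s₀)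
  let at' : ∀ {W : Over S} (_ : W ⟶ ob s) (_ : Γ(W.left, ⊤)), I.obj (op W) := fun a v =>
    I.map (evalPt a fun _ => v).op e
  have at_comp : ∀ {W W' : Over S} (b : W' ⟶ W) (a : W ⟶ ob s) (v : Γ(W.left, ⊤)),
      I.map b.op (at' a v) = at' (b ≫ a) (fn b v) := fun b a v => by
    show I.map b.op (I.map (evalPt a fun _ => v).op e) = I.map (evalPt (b ≫ a) fun _ => fn b v).op e
    rw [← ConcreteCategory.comp_apply, ← Functor.map_comp, ← op_comp, comp_evalPt]
  have hΦ0 : ∀ (W : Over S) (a : W ⟶ ob s), Φ W a 0 = 0 := fun W a => by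
    have := hadd W a 0 0
    rw [add_zero] at this
    exact left_eq_add.1 this
  have hzero : ∀ (W : Over S) (a : W ⟶ ob s), at' a 0 = 0 := fun W a => by
    show I.map (evalPt a fun _ => 0).op (s₀ - I.map (pr s 1).op (I.map o.op s₀)) = 0
    rw [map_sub, ← ConcreteCategory.comp_apply (I.map o.op), ← Functor.map_comp,
      ← ConcreteCategory.comp_apply (I.map (o.op ≫ _)), ← Functor.map_comp, ← op_comp, ← op_comp,
      show evalPt a (fun _ => (0 : Γ(W.left, ⊤))) ≫ pr s 1 ≫ o = evalPt a fun _ => 0 by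
        rw [← Category.assoc, evalPt_pr, comp_evalPt, Category.comp_id]
        simp]
    exact sub_self _
  have hg : ∀ (W : Over S) (a : W ⟶ ob s) (v : Γ(W.left, ⊤)), Sh.g.hom.app (op W) (at' a v) = Φ W a v := fun W a v => by
    show Sh.g.hom.app (op W) (I.map (evalPt a fun _ => v).op (s₀ - I.map (pr s 1).op (I.map o.op s₀))) = _
    rw [NatTrans.naturality_apply Sh.g.hom (evalPt a fun _ => v).op, map_sub,
      NatTrans.naturality_apply Sh.g.hom (pr s 1).op, NatTrans.naturality_apply Sh.g.hom o.op, hs₀, hnat o, fn_evalPt,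
      MvPolynomial.eval₂_X, hΦ0, map_zero, sub_zero, hnat, evalPt_pr, fn_evalPt, MvPolynomial.eval₂_X]
  -- units inside the middle term
  let U : ∀ {W : Over S}, Γ(W.left, ⊤)ˣ → I.obj (op W) := fun {W} u =>
    Sh.f.hom.app (op W) (i₁.inv.app (op W) (GmPts.sectOfUnit (T := op W) u))
  have hU_mul : ∀ {W : Over S} (a b : Γ(W.left, ⊤)ˣ), U (a * b) = U a + U b := fun {W} a b => by
    show Sh.f.hom.app _ (i₁.inv.app _ _) = Sh.f.hom.app _ (i₁.inv.app _ _) + Sh.f.hom.app _ (i₁.inv.app _ _)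
    rw [← map_add, ← map_add]
    rfl
  have hU_one : ∀ {W : Over S}, U (1 : Γ(W.left, ⊤)ˣ) = 0 := fun {W} => by
    show Sh.f.hom.app _ (i₁.inv.app _ 0) = 0
    rw [map_zero, map_zero]
  have hU_nat : ∀ {W W' : Over S} (b : W' ⟶ W) (x : Γ(W.left, ⊤)ˣ),
      I.map b.op (U x) = U (Units.map (fn b).hom.toMonoidHom x) := fun b x =>
    ((NatTrans.naturality_apply Sh.f.hom b.op _).symm).trans
      (congrArg (Sh.f.hom.app _) (NatTrans.naturality_apply i₁.inv b.op _).symm)
  have hU_inj : ∀ {W : Over S} {a b : Γ(W.left, ⊤)ˣ}, U a = U b → a = b := fun {W a b} h =>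
    congrArg GmPts.unitOfSect (ConcreteCategory.injective_of_mono_of_preservesPullback (i₁.inv.app (op W))
      ((sections_left_exact hSh W).1 h))
  have hgU : ∀ {W : Over S} (u : Γ(W.left, ⊤)ˣ), Sh.g.hom.app (op W) (U u) = 0 := fun {W} u =>
    ConcreteCategory.congr_hom (congrArg (fun χ : Sh.X₁ ⟶ Sh.X₃ => χ.hom.app (op W)) Sh.zero) _
  -- the cocycle
  let c : I.obj (op (Pn s 2)) := at' (pr s 2) (pf (MvPolynomial.X 0)) + at' (pr s 2) (pf (MvPolynomial.X 1)) -
    at' (pr s 2) (pf (MvPolynomial.X 0) + pf (MvPolynomial.X 1))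
  have hc0 : Sh.g.hom.app _ c = 0 := by
    show Sh.g.hom.app _ (at' (pr s 2) _ + at' (pr s 2) _ - at' (pr s 2) _) = 0
    rw [map_sub, map_add, hg, hg, hg, hadd, sub_self]
  obtain ⟨v, hv⟩ := (sections_left_exact hSh (Pn s 2)).2 c hc0
  obtain ⟨v, rfl⟩ : ∃ u, i₁.inv.app (op (Pn s 2)) (GmPts.sectOfUnit (T := op (Pn s 2)) u) = v :=
    ⟨GmPts.unitOfSect (i₁.hom.app (op (Pn s 2)) v),
      ConcreteCategory.congr_hom (i₁.hom_inv_id_app (op (Pn s 2))) v⟩
  let h : MvPolynomial (Fin 2) R := (Scheme.ΓSpecIso (CommRingCat.of (MvPolynomial (Fin 2) R))).hom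
    (v : Γ((Pn s 2).left, ⊤))
  have hpfh : pf h = (v : Γ((Pn s 2).left, ⊤)) := Iso.hom_inv_id_apply _ _
  have hh : IsUnit h := v.isUnit.map (Scheme.ΓSpecIso (CommRingCat.of (MvPolynomial (Fin 2) R))).hom.hom
  let V : ∀ {W : Over S} (_ : W ⟶ ob s) (_ _ : Γ(W.left, ⊤)), Γ(W.left, ⊤)ˣ := fun a x y =>
    Units.map (fn (evalPt a ![x, y])).hom.toMonoidHom v
  have hV : ∀ {W : Over S} (a : W ⟶ ob s) (x y : Γ(W.left, ⊤)), U (V a x y) = at' a x + at' a y - at' a (x + y) :=
    fun a x y => by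
    rw [← hU_nat]
    show I.map (evalPt a ![x, y]).op (Sh.f.hom.app _ _) = _
    rw [hv]
    show I.map (evalPt a ![x, y]).op (at' (pr s 2) _ + at' (pr s 2) _ - at' (pr s 2) _) = _
    rw [map_sub, map_add, at_comp, at_comp, at_comp, map_add, evalPt_pr, fn_evalPt, fn_evalPt, MvPolynomial.eval₂_X,
      MvPolynomial.eval₂_X]
    rfl
  have hVval : ∀ {W : Over S} (a : W ⟶ ob s) (x y : Γ(W.left, ⊤)),
      ((V a x y : Γ(W.left, ⊤)ˣ) : Γ(W.left, ⊤)) = MvPolynomial.eval₂ (cs a) ![x, y] h := fun a x y => by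
    rw [← fn_evalPt, hpfh]
    rfl
  have hPV : ∀ {m : ℕ} (a b : MvPolynomial (Fin m) R),
      ((V (pr s m) (pf a) (pf b) : Γ((Pn s m).left, ⊤)ˣ) : Γ((Pn s m).left, ⊤)) =
        pf (MvPolynomial.aeval ![a, b] h) := fun {m} a b => by
    rw [hVval, MvPolynomial.aeval_def, cs_pr]
    show _ = pf (MvPolynomial.eval₂Hom _ _ h)
    rw [MvPolynomial.coe_eval₂Hom, MvPolynomial.eval₂_comp_left]
    congr 1
    funext i
    fin_cases i <;> rfl
  have hcoc : Groth.L25.GaGmSplit.Cocycle h := by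
    refine ⟨?_, ?_, ?_⟩
    · refine pf_injective ?_
      rw [← hPV, map_one, map_zero]
      refine (congrArg Units.val (hU_inj (b := 1) ?_)).trans Units.val_one
      rw [hV, hU_one, hzero, add_zero, add_zero, sub_self]
    · refine pf_injective ?_
      rw [← hPV]
      refine Eq.trans ?_ ((hPV (MvPolynomial.X 0) (MvPolynomial.X 1)).trans (congrArg pf ?_))
      · refine congrArg Units.val (hU_inj ?_)
        rw [hV, hV, add_comm (pf (MvPolynomial.X 1 : MvPolynomial (Fin 2) R))]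
        abel
      · rw [show ![(MvPolynomial.X 0 : MvPolynomial (Fin 2) R), MvPolynomial.X 1] = MvPolynomial.X from
          funext fun i => by fin_cases i <;> rfl]
        exact MvPolynomial.aeval_X_left_apply h
    · refine pf_injective ?_
      rw [map_mul, map_mul, ← hPV, ← hPV, ← hPV, ← hPV, ← Units.val_mul, ← Units.val_mul]
      refine congrArg Units.val (hU_inj (W := Pn s 3) ?_)
      simp only [hU_mul, hV, map_add, add_assoc]
      abel
  obtain ⟨t, N, T, f, hf, hfeq⟩ := exists_split_stage p h hh hcoc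
  let g := algebraMap R T.A
  let F : ∀ {W : Over S} (_ : W ⟶ ob (bs g s)) (_ : Γ(W.left, ⊤)), Γ(W.left, ⊤)ˣ := fun a x =>
    Units.map (Polynomial.eval₂RingHom (cs a) x).toMonoidHom hf.unit
  have hFnat : ∀ {W W' : Over S} (b : W' ⟶ W) (a : W ⟶ ob (bs g s)) (x : Γ(W.left, ⊤)),
      Units.map (fn b).hom.toMonoidHom (F a x) = F (b ≫ a) (fn b x) := fun b a x => Units.ext (by
    show (fn b).hom (Polynomial.eval₂ (cs a) x f) = Polynomial.eval₂ (cs (b ≫ a)) (fn b x) f
    rw [Polynomial.hom_eval₂, show (fn b).hom.comp (cs a) = cs (b ≫ a) from RingHom.ext fun r => (cs_comp b a r).symm])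
  have hFmul : ∀ {W : Over S} (a : W ⟶ ob (bs g s)) (x y : Γ(W.left, ⊤)),
      F a (x + y) = F a x * F a y * V (a ≫ π g s) x y := fun {W} a x y => Units.ext (by
    show Polynomial.eval₂ (cs a) (x + y) f = Polynomial.eval₂ (cs a) x f *
      Polynomial.eval₂ (cs a) y f * (V (a ≫ π g s) x y : Γ(W.left, ⊤)ˣ)
    rw [hVval, cs_π]
    have key : ∀ q : MvPolynomial (Fin 2) T.A,
        MvPolynomial.eval₂Hom (cs a) ![x, y] (Polynomial.aeval q f) =
          Polynomial.eval₂ (cs a) (MvPolynomial.eval₂Hom (cs a) ![x, y] q) f := fun q => by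
      rw [Polynomial.aeval_def, Polynomial.hom_eval₂]
      congr 1
      exact RingHom.ext fun r => MvPolynomial.eval₂_C (cs a) _ r
    have e := congrArg (MvPolynomial.eval₂Hom (cs a) ![x, y]) hfeq
    rw [map_mul, map_mul, key, key, key, map_add, MvPolynomial.eval₂Hom_X', MvPolynomial.eval₂Hom_X',
      MvPolynomial.eval₂Hom_map_hom] at e
    exact e)
  refine ⟨t, N, T, fun W a x => at' (a ≫ π g s) x + U (F a x), fun {W W'} b a x => ?_, fun W a x y => ?_,
    fun W a x => ?_⟩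
  · show I.map b.op (at' (a ≫ π g s) x + U (F a x)) = at' ((b ≫ a) ≫ π g s) (fn b x) + U (F (b ≫ a) (fn b x))
    rw [map_add, at_comp, hU_nat, hFnat, Category.assoc]
  · show at' (a ≫ π g s) (x + y) + U (F a (x + y)) =
      at' (a ≫ π g s) x + U (F a x) + (at' (a ≫ π g s) y + U (F a y))
    rw [hFmul, hU_mul, hU_mul, hV]
    abel
  · show Sh.g.hom.app (op W) (at' (a ≫ π g s) x + U (F a x)) = _
    rw [map_add, hg, hgU, add_zero]

end Core

end Groth.L07.ExtShGa
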