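import Groth.Agent.L07.GaExt.PicSection

/-!
# The invertible module of a section, compatible with pullback
-/

universe u

open CategoryTheory CategoryTheory.Limits AlgebraicGeometry Opposite TopologicalSpace
open Groth.L27 (MV.oE MV.oHom MV.oTop)
open Groth.L21.Extend (rs IsGen)
open Groth.L28.GmH1 (gm rU)
open Groth.L07.GaExt

set_option autoImplicit false
set_option backward.defeqAttrib.useBackward true
set_option backward.isDefEq.respectTransparency false
set_option backward.isDefEq.respectTransparency.types false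
set_option linter.style.haveILetI false
set_option maxHeartbeats 800000

noncomputable section

namespace Groth.L07.ExtShGa

local notation "Kf" => Scheme.fppfPrecoverage

variable {X : Scheme.{u}} {Sh : ShortComplex (BigSite.Ab Kf X)} (i₁ : Sh.X₁.obj ≅ GmPts.unitsPre X) {T : Over X}

include i₁ in
/-- A section of a quotient by units has an invertible module whose pullbacks detect lifting of the pullbacks
of the section. -/
theorem exists_module_of_section' (hSh : Sh.ShortExact) (q : Sh.X₃.obj.obj (op T)) :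
    ∃ L : T.left.Modules, PicF.IsInvertible L ∧
      (Nonempty (L ≅ Coh.structureModule T.left) → ∃ s, Sh.g.hom.app (op T) s = q) ∧
      ∀ (T' : Over X) (z : T' ⟶ T),
        (Sh.X₃.obj.map z.op q = 0 →
          Nonempty ((Scheme.Modules.pullback z.left).obj L ≅ Coh.structureModule T'.left)) ∧
        (Nonempty ((Scheme.Modules.pullback z.left).obj L ≅ Coh.structureModule T'.left) →
          ∃ s, Sh.g.hom.app (op T') s = Sh.X₃.obj.map z.op q) := by
  obtain ⟨L, hL, hA⟩ := Groth.L28.GmH1.exists_assoc_module (shortExact_et i₁ T hSh) (secTop T q)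
  refine ⟨L, hL, fun hiso => ?_, fun T' z => ?_⟩
  · obtain ⟨y, hy⟩ := (Groth.L28.GmH1.exists_iff_iso (shortExact_et i₁ T hSh) hA
      Groth.L28.GmH1.assoc_zero).2 hiso
    refine ⟨- Sh.X₂.obj.map (obTIso T).inv.op y, ?_⟩
    have hy' : Sh.g.hom.app (op (obT T)) y = - Sh.X₃.obj.map (obTIso T).hom.op q := hy.trans (zero_sub _)
    rw [map_neg, NatTrans.naturality_apply Sh.g.hom (obTIso T).inv.op, hy', map_neg, neg_neg,
      ← ConcreteCategory.comp_apply, ← Functor.map_comp, ← op_comp, Iso.inv_hom_id, op_id, CategoryTheory.Functor.map_id]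
    rfl
  · obtain ⟨ι, N, s, e, hcov, hs, he, htr⟩ := hA
    let L' := (Scheme.Modules.pullback z.left).obj L
    let N' : ι → T'.left.Opens := fun i => z.left ⁻¹ᵁ N i
    have he' : ∀ i, IsGen L' (N' i) (Groth.L18.Frame.pull z.left L (N i) (e i)) := fun i =>
      Groth.L18.Frame.IsFrame.pullback z.left L (he i)
    let s' : ∀ i, Sh.X₂.obj.obj (op (obO T' (N' i))) := fun i => Sh.X₂.obj.map (obMap z (N i)).op (s i)
    have hA' : Groth.L28.GmH1.Assoc (etF i₁ T') (etG (Sh := Sh) T')
        (secTop T' (Sh.X₃.obj.map z.op q)) L' := by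
      refine ⟨ι, N', s', fun i => Groth.L18.Frame.pull z.left L (N i) (e i), fun x => hcov (z.left x),
        fun i => ?_, he', fun i j W hi hj c hc => ?_⟩
      · refine (NatTrans.naturality_apply Sh.g.hom (obMap z (N i)).op (s i)).trans ?_
        refine (congrArg (Sh.X₃.obj.map (obMap z (N i)).op) (hs i)).trans ?_
        show Sh.X₃.obj.map (obMap z (N i)).op (Sh.X₃.obj.map ((Over.map T.hom).map ((EtFppf.a T.left).map
          (MV.oTop (N i)))).op (Sh.X₃.obj.map (obTIso T).hom.op q)) =
          Sh.X₃.obj.map ((Over.map T'.hom).map ((EtFppf.a T'.left).map (MV.oTop (N' i)))).op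
            (Sh.X₃.obj.map (obTIso T').hom.op (Sh.X₃.obj.map z.op q))
        rw [← ConcreteCategory.comp_apply, ← ConcreteCategory.comp_apply, ← ConcreteCategory.comp_apply,
          ← ConcreteCategory.comp_apply, ← Functor.map_comp, ← Functor.map_comp, ← Functor.map_comp, ← Functor.map_comp,
          ← op_comp, ← op_comp, ← op_comp, ← op_comp]
        refine congrArg (fun φ : obO T' (N' i) ⟶ T => Sh.X₃.obj.map φ.op q) (Over.OverMorphism.ext ?_)
        have h1 : ∀ (Y : Scheme.{u}) (O : Y.Opens), (MV.oTop O).left = O.ι := fun Y O => by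
          have := MorphismProperty.Over.w (MV.oTop O)
          simpa using this
        show ((z.left ∣_ N i) ≫ (MV.oTop (N i)).left) ≫ 𝟙 _ = ((MV.oTop (N' i)).left ≫ 𝟙 _) ≫ z.left
        rw [Category.comp_id, h1, morphismRestrict_ι, Category.comp_id, h1]
      · let W₀ : T.left.Opens := N i ⊓ N j
        obtain ⟨a, ha⟩ := Groth.L28.GmH1.exists_unit_trans (he i) (he j) (inf_le_left : W₀ ≤ N i)
          (inf_le_right : W₀ ≤ N j)
        have h0 := congrArg (Sh.X₂.obj.map (obMap z W₀).op) (htr i j W₀ inf_le_left inf_le_right a ha)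
        have hW : W ≤ z.left ⁻¹ᵁ W₀ := le_inf hi hj
        let a' : Γ(T'.left, z.left ⁻¹ᵁ W₀)ˣ := Units.map (z.left.app W₀).hom.toMonoidHom a
        have hc' : c = rU hW a' := by
          refine Groth.L28.GmH1.trans_eq (he' i) hi hc ?_
          have h1 := congrArg (rs L' hW) (congrArg (Groth.L18.Frame.pull z.left L W₀) ha)
          rw [Groth.L18.Frame.pull_smul, ← Groth.L18.Frame.pull_rs z.left L (inf_le_left : W₀ ≤ N i),
            ← Groth.L18.Frame.pull_rs z.left L (inf_le_right : W₀ ≤ N j)] at h1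
          rw [Groth.L21.Extend.rs_smul, Groth.L21.Extend.rs_rs, Groth.L21.Extend.rs_rs] at h1
          exact h1
        rw [hc', ← Groth.L28.GmH1.res_gm]
        refine (Groth.L27.EtFlasque.res_nat (etF i₁ T') hW (gm a')).trans ?_
        refine (congrArg (Groth.L27.EtFlasque.res _ hW) ((etF_natural i₁ z W₀ a).symm.trans h0)).trans ?_
        have key : ∀ (k : ι) (hk : W₀ ≤ N k) (hk' : W ≤ N' k),
            Groth.L27.EtFlasque.res ((toEt T').obj Sh.X₂) hW (Sh.X₂.obj.map (obMap z W₀).op
              (Groth.L27.EtFlasque.res ((toEt T).obj Sh.X₂) hk (s k))) =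
              Groth.L27.EtFlasque.res ((toEt T').obj Sh.X₂) hk' (s' k) := fun k hk hk' => by
          show Sh.X₂.obj.map ((Over.map T'.hom).map ((EtFppf.a T'.left).map (MV.oHom hW))).op
              (Sh.X₂.obj.map (obMap z W₀).op (Sh.X₂.obj.map ((Over.map T.hom).map ((EtFppf.a T.left).map
                (MV.oHom hk))).op (s k))) =
            Sh.X₂.obj.map ((Over.map T'.hom).map ((EtFppf.a T'.left).map (MV.oHom hk'))).op
              (Sh.X₂.obj.map (obMap z (N k)).op (s k))
          rw [← ConcreteCategory.comp_apply, ← ConcreteCategory.comp_apply, ← ConcreteCategory.comp_apply,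
            ← Functor.map_comp, ← Functor.map_comp, ← Functor.map_comp, ← op_comp, ← op_comp, ← op_comp]
          refine congrArg (fun φ : obO T' W ⟶ obO T (N k) => Sh.X₂.obj.map φ.op (s k)) (Over.OverMorphism.ext ?_)
          refine (cancel_mono (N k).ι).1 ?_
          show (((T'.left.homOfLE hW) ≫ (z.left ∣_ W₀)) ≫ T.left.homOfLE hk) ≫ (N k).ι =
            ((T'.left.homOfLE hk') ≫ (z.left ∣_ N k)) ≫ (N k).ι
          simp only [Category.assoc, Scheme.homOfLE_ι, morphismRestrict_ι, Scheme.homOfLE_ι_assoc]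
          exact (Scheme.homOfLE_ι_assoc T'.left hk' z.left).symm
        refine (congrArg (Groth.L27.EtFlasque.res _ hW) (map_sub _ _ _)).trans ((map_sub _ _ _).trans ?_)
        exact congr_arg₂ (· - ·) (key j inf_le_right hj) (key i inf_le_left hi)
    refine ⟨fun hz => (Groth.L28.GmH1.exists_iff_iso (shortExact_et i₁ T' hSh) hA' Groth.L28.GmH1.assoc_zero).1
      ⟨0, ?_⟩, fun hiso => ?_⟩
    · rw [map_zero, zero_sub, secTop, hz, map_zero, neg_zero]
    · obtain ⟨y, hy⟩ := (Groth.L28.GmH1.exists_iff_iso (shortExact_et i₁ T' hSh) hA'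
        Groth.L28.GmH1.assoc_zero).2 hiso
      refine ⟨- Sh.X₂.obj.map (obTIso T').inv.op y, ?_⟩
      have hy' : Sh.g.hom.app (op (obT T')) y = - Sh.X₃.obj.map (obTIso T').hom.op (Sh.X₃.obj.map z.op q) :=
        hy.trans (zero_sub _)
      rw [map_neg, NatTrans.naturality_apply Sh.g.hom (obTIso T').inv.op, hy', map_neg, neg_neg,
        ← ConcreteCategory.comp_apply (Sh.X₃.obj.map (obTIso T').hom.op), ← Functor.map_comp, ← op_comp,
        Iso.inv_hom_id, op_id, CategoryTheory.Functor.map_id]
      rfl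

end Groth.L07.ExtShGa
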